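import Cfsg.Agent.BpExc.Pair
import Cfsg.Agent.H316.U6Norm_m3
import Cfsg.Agent.H496.Mono.Base
import Cfsg.Agent.BpExc.AsmN_m3
import Cfsg.Agent.H316.U6Fam_mg_m3
import Cfsg.Agent.S1054
import Cfsg.Agent.S1055
import Cfsg.Agent.H994.KE.Base_m3
import Cfsg.Agent.H720.TwFr
import Cfsg.Agent.H795.SetTor_m3
import Cfsg.Agent.Lib.ListFast
import Cfsg.Agent.Nodes.SimplyLaced
import Cfsg.Agent.ChevFast.E8
import Cfsg.Agent.FastGrp
import Cfsg.Agent.Prune
set_option linter.all false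

section
prune_inst 0x7ffcf9fbafb8bddfffff7e7ffedbdffc19d0dfffe6dff9437fe0e3ff2b9f23000fe5fbaf0de090fe1ed6e2bc10b87853f97eefffea6bdc7ffffd5ff45ffbee4ff5f7bd08719e9ca40fba0fffe3f07f8e7f3fffffffffffffffffffffffffffbeffffffffffff

-- part: H225/Gen/Conj
section
prune_inst 0x60000000000000001800024000220280000002004000000040010400804a000000080114601012101008400030806811000010022000000000000040010020800010041201a000460001001804000000000000000000000000000000000000000000000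
set_option linter.all false
open scoped Cfsg.Agent.FastGrp

-- part: H225/Gen/Fam
section
/-!
# The pair reduction for families (S2187, helper225)

The results of `BpExc.Fr`, `BpExc.Pair` for a finite family `t : ι → Y` of torus elements instead of one element.

* `SF t` : the roots trivial on all `t i`; `MF t` : the group generated by their root groups;
* `exists_formF` : `c s_i = t_i c` for all `i`: `c = m k`, `m ∈ MF t`, `k ∈ N`, `k s_i = t_i k`;
* `frame` : `σ x_i = x_i`, `z⁻¹ x_i z = t_i ∈ T`: after changing `z` the automorphism `conj (z⁻¹ σ z) σ` is a frame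
  automorphism fixing the `t_i`;
* `adjust` : for a family with more roots we can make it preserve the positive roots of `SF`.
-/

set_option autoImplicit false
set_option linter.unusedSectionVars false

namespace Cfsg.Agent.H225.Gen

open CoxeterSystem Cfsg.Agent.ChevalleyStructure.CoxeterGeom Cfsg.Agent.Tits.Roots Cfsg.Agent.Tits.Core
  Cfsg.Agent.Tits.RootComb Cfsg.Agent.Tits.Exchange Cfsg.Agent.Nodes.Reps Cfsg.Agent.Nodes.BNOf
  Cfsg.Agent.Nodes.StabComb Cfsg.Agent.Nodes.Bruhat Cfsg.Agent.Nodes.OppDec Cfsg.Agent.Nodes.LeviDec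
  Cfsg.Agent.Nodes.NormalForm Cfsg.Agent.Nodes.SubComb Cfsg.Agent.Nodes.Coroot Cfsg.Agent.KFacts.RgdField
  Cfsg.Agent.BpExc.TorCent Cfsg.Agent.BpExc.Tow Cfsg.Agent.BpExc.Fr Cfsg.Agent.BpExc.Pair
open scoped commutatorElement

variable {I W Y : Type*} [Fintype I] [DecidableEq I] [Group W] [Group Y] {M : CoxeterMatrix I}
  {cs : CoxeterSystem M W} {A : I → I → ℤ} {h : IsCartan M A} {p : ℕ}
  {J : Type*} [Preorder J] {T : J → Subgroup Y} {n : I → Y} {X : J → (I → ℤ) → Subgroup Y}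
  (H : Tow cs h p T n X) {F : Type*} [Field F] {xx : (I → ℤ) → F → Y} {χ : (I → ℤ) → Y → F}
  (C : Coords cs h (TL T) n (XL X) xx χ) {ι : Type*} [Finite ι]

/-- the roots trivial on all `t i` -/
def SF (cs : CoxeterSystem M W) (h : IsCartan M A) (χ : (I → ℤ) → Y → F) {ι : Type*} (t : ι → Y) : Set (I → ℤ) :=
  {a | IsRoot cs h a ∧ ∀ i, χ a (t i) = 1}

/-- the group generated by the root groups centralised by all `t i` -/
def MF (cs : CoxeterSystem M W) (h : IsCartan M A) (X : (I → ℤ) → Subgroup Y) (χ : (I → ℤ) → Y → F)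
    {ι : Type*} (t : ι → Y) : Subgroup Y := RGD.Sup X (SF cs h χ t)

theorem SF_neg (hA : ChAdd cs h (TL T) χ) {t : ι → Y} (ht : ∀ i, t i ∈ TL T) {a : I → ℤ}
    (ha : a ∈ SF cs h χ t) : -a ∈ SF cs h χ t := by
  refine ⟨ha.1.neg, fun i => ?_⟩
  obtain ⟨φ, h0, hadd, hφ⟩ := hA _ (ht i)
  have h1 := hadd a (-a)
  rw [add_neg_cancel, h0, ← hφ a ha.1, ha.2 i, one_mul, ← hφ _ ha.1.neg] at h1
  exact h1.symm

/-- `SF` is closed -/
theorem SF_closed (hA : ChAdd cs h (TL T) χ) {t : ι → Y} (ht : ∀ i, t i ∈ TL T) {a b : I → ℤ}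
    (ha : a ∈ SF cs h χ t) (hb : b ∈ SF cs h χ t) (x y : ℤ) (hr : IsRoot cs h (x • a + y • b)) :
    x • a + y • b ∈ SF cs h χ t := by
  refine ⟨hr, fun i => ?_⟩
  obtain ⟨φ, h0, hadd, hφ⟩ := hA _ (ht i)
  have hne : ∀ v, φ v ≠ 0 := fun v h1 => by
    have h2 := hadd v (-v)
    rw [add_neg_cancel, h0, h1, zero_mul] at h2
    exact one_ne_zero h2
  have hone : ∀ v : I → ℤ, φ v = 1 → ∀ x : ℤ, φ (x • v) = 1 := by
    intro v hv x
    have hneg : φ (-v) = 1 := by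
      have h2 := hadd v (-v)
      rw [add_neg_cancel, h0, hv, one_mul] at h2
      exact h2.symm
    have hn : ∀ m : ℕ, φ (m • v) = 1 ∧ φ (m • (-v)) = 1 := by
      intro m
      induction m with
      | zero => rw [zero_smul, zero_smul]; exact ⟨h0, h0⟩
      | succ m ih => rw [succ_nsmul, succ_nsmul, hadd, hadd, ih.1, ih.2, hv, hneg, one_mul]; exact ⟨rfl, rfl⟩
    rcases Int.eq_nat_or_neg x with ⟨m, rfl | rfl⟩
    · rw [natCast_zsmul]; exact (hn m).1
    · rw [neg_smul, natCast_zsmul, ← smul_neg]; exact (hn m).2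
  rw [hφ _ hr, hadd, hone a (by rw [← hφ a ha.1]; exact ha.2 i), hone b (by rw [← hφ b hb.1]; exact hb.2 i), one_mul]

include C

theorem MF_comm {t : ι → Y} (ht : ∀ i, t i ∈ TL T) {y : Y} (hy : y ∈ MF cs h (XL X) χ t) (i : ι) :
    y * t i = t i * y := by
  have h1 : y ∈ MM cs h (XL X) χ (t i) :=
    RGD.Sup_mono (X := XL X) (S := SF cs h χ t) (S' := Sx cs h χ (t i)) (fun a ha => ⟨ha.1, ha.2 i⟩) hy
  have h2 := MM_le_centralizer C (ht i) h1
  rwa [Subgroup.mem_centralizer_singleton_iff] at h2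

/-- a frame automorphism fixing the `t i` preserves `SF` -/
theorem Fr_mem_SF {σ : MulAut Y} {g : (I → ℤ) ≃+ (I → ℤ)} (Fσ : Fr cs h (TL T) (XL X) σ g) {t : ι → Y}
    (ht : ∀ i, t i ∈ TL T) (hσt : ∀ i, σ (t i) = t i) (a : I → ℤ) : g a ∈ SF cs h χ t ↔ a ∈ SF cs h χ t := by
  constructor
  · rintro ⟨h1, h2⟩
    refine ⟨(Fσ.root a).1 h1, fun i => ?_⟩
    exact ((Fσ.mem_Sx C (ht i) (hσt i) a).1 ⟨h1, h2 i⟩).2
  · rintro ⟨h1, h2⟩
    refine ⟨(Fσ.root a).2 h1, fun i => ?_⟩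
    exact ((Fσ.mem_Sx C (ht i) (hσt i) a).2 ⟨h1, h2 i⟩).2

theorem Fr_mem_MF {σ : MulAut Y} {g : (I → ℤ) ≃+ (I → ℤ)} (Fσ : Fr cs h (TL T) (XL X) σ g) {t : ι → Y}
    (ht : ∀ i, t i ∈ TL T) (hσt : ∀ i, σ (t i) = t i) (y : Y) :
    σ y ∈ MF cs h (XL X) χ t ↔ y ∈ MF cs h (XL X) χ t :=
  Fσ.mem_Sup (fun _ ha => ha.1) (Fr_mem_SF C Fσ ht hσt) y

include H

/-- **Families of torus elements conjugate in `Y` are conjugate in `N`.** -/
theorem exists_formF [Finite W] {s t : ι → Y} (hs : ∀ i, s i ∈ TL T) (ht : ∀ i, t i ∈ TL T) {c : Y}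
    (hc : c ∈ GG cs h (TL T) (XL X)) (e : ∀ i, c * s i = t i * c) :
    ∃ m ∈ MF cs h (XL X) χ t, ∃ w k, Rp cs H.nsys w k ∧ (∀ i, k * s i = t i * k) ∧ c = m * k := by
  obtain ⟨j1, h1⟩ := H.exists_level (S := fun j => (T j : Set Y)) (fun _ _ hab => H.monoT hab)
    (f := s) (fun a => H.mem_TL.1 (hs a))
  obtain ⟨j2, h2⟩ := H.exists_level (S := fun j => (T j : Set Y)) (fun _ _ hab => H.monoT hab)
    (f := t) (fun a => H.mem_TL.1 (ht a))
  obtain ⟨j3, h3⟩ := H.mem_GG.1 hc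
  obtain ⟨j4, a1, a2⟩ := H.dir j1 j2
  obtain ⟨j, b1, b2⟩ := H.dir j3 j4
  have h1' : ∀ i, s i ∈ T j := fun i => H.monoT (a1.trans b2) (h1 i)
  have h2' : ∀ i, t i ∈ T j := fun i => H.monoT (a2.trans b2) (h2 i)
  obtain ⟨w, hw⟩ := (Cfsg.Agent.Nodes.Bruhat.mem_GG (H.rgd j)).1 (H.mono_GG b1 h3)
  obtain ⟨u, hu, k, hk, v, hv, rfl⟩ := Cfsg.Agent.Nodes.NormalForm.exists_normal_form (H.rgd j) hw
  have key := fun i => conj_form' (H.rgd j) (h1' i) (h2' i) hu hk hv (e i)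
  have hv' : v ∈ RGD.Sup (X j) (RGD.Pos cs h) :=
    RGD.Sup_mono (S := NW cs h w) (S' := RGD.Pos cs h) (fun x hx => ⟨hx.1, hx.2.1⟩) hv
  have hle : ∀ {t : ι → Y}, (∀ i, t i ∈ T j) → ∀ u ∈ RGD.Sup (X j) (RGD.Pos cs h), (∀ i, u * t i = t i * u) →
      u ∈ MF cs h (XL X) χ t := by
    intro t ht u hu huc
    have hsub : Set.range t ⊆ T j := by
      rintro _ ⟨i, rfl⟩
      exact ht i
    have h4 : u ∈ RGD.Sup (fun x => X j x ⊓ Subgroup.centralizer (Set.range t)) (RGD.Pos cs h) := by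
      rw [← centralizer_U (H.rgd j) hsub]
      refine ⟨hu, Subgroup.mem_centralizer_iff.2 ?_⟩
      rintro _ ⟨i, rfl⟩
      exact (huc i).symm
    have h5 : RGD.Sup (fun x => X j x ⊓ Subgroup.centralizer (Set.range t)) (RGD.Pos cs h) ≤
        MF cs h (XL X) χ t := by
      refine RGD.Sup_le fun a ha => ?_
      rintro y ⟨hy, hyc⟩
      by_cases h6 : y = 1
      · rw [h6]; exact one_mem _
      · refine RGD.le_Sup (X := XL X) (S := SF cs h χ t) ⟨ha.1, fun i => ?_⟩ (le_XL j a hy)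
        have h7 : a ∈ Sx cs h χ (t i) := by
          refine mem_Sx_of_centralizer C (le_TL j (ht i)) ha.1 (le_XL j a hy) h6 ?_
          rw [Subgroup.mem_centralizer_singleton_iff]
          exact (Subgroup.mem_centralizer_iff.1 hyc _ ⟨i, rfl⟩).symm
        exact h7.2
    exact h5 h4
  have hkL := H.rp_up hk
  have hks : ∀ i, k * s i = t i * k := fun i => (key i).2.1
  have hkk : ∀ i, k * s i * k⁻¹ = t i := fun i => by rw [hks]; group
  refine ⟨u * (k * v * k⁻¹), mul_mem (hle h2' u hu fun i => (key i).1.symm) ?_, w, k, hkL, hks, by group⟩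
  have h4 : v ∈ MF cs h (XL X) χ s := hle h1' v hv' fun i => (key i).2.2.symm
  have h5 : MF cs h (XL X) χ s ≤ (MF cs h (XL X) χ t).comap (MulAut.conj k).toMonoidHom := by
    refine RGD.Sup_le fun a ha => ?_
    intro y hy
    have h6 : rep cs h w a ∈ SF cs h χ t := by
      refine ⟨ha.1.act w, fun i => ?_⟩
      have h7 := C.chi_rp H.nsys hkL ha.1 (hs i)
      rw [hkk] at h7
      rw [h7]; exact ha.2 i
    have h8 : k * y * k⁻¹ ∈ XL X (rep cs h w a) := by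
      rw [← H.conj_rp hkL ha.1]
      exact conj_mem_cj.2 hy
    exact RGD.le_Sup h6 h8
  exact h5 h4

/-- **The frame.** -/
theorem frame [Finite W] (hG : GG cs h (TL T) (XL X) = ⊤) {σ : MulAut Y}
    {g : (I → ℤ) ≃+ (I → ℤ)} (Fσ : Fr cs h (TL T) (XL X) σ g) {x t : ι → Y} {z : Y} (hσx : ∀ i, σ (x i) = x i)
    (hz : ∀ i, z⁻¹ * x i * z = t i) (ht : ∀ i, t i ∈ TL T)
    (hL : ∀ (k : Y) (g' : (I → ℤ) ≃+ (I → ℤ)), Fr cs h (TL T) (XL X) (MulAut.conj k * σ) g' →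
      (∀ i, (MulAut.conj k * σ) (t i) = t i) → ∀ m ∈ MF cs h (XL X) χ t, ∃ y ∈ MF cs h (XL X) χ t,
      m = y⁻¹ * (MulAut.conj k * σ) y) :
    ∃ (z' k : Y) (w : W), z⁻¹ * z' ∈ MF cs h (XL X) χ t ∧ (∀ i, z'⁻¹ * x i * z' = t i) ∧ z'⁻¹ * σ z' = k ∧
      Rp cs H.nsys w k ∧ Fr cs h (TL T) (XL X) (MulAut.conj k * σ) (g.trans (repAut cs h w)) ∧
      ∀ i, (MulAut.conj k * σ) (t i) = t i := by
  have e1 : ∀ i, z⁻¹ * σ z * σ (t i) = t i * (z⁻¹ * σ z) := by
    intro i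
    have h1 : σ (t i) = (σ z)⁻¹ * x i * σ z := by rw [← hz, map_mul, map_mul, map_inv, hσx]
    rw [h1, ← hz]; group
  obtain ⟨m, hm, w, k, hk, hkt, hc⟩ := exists_formF H C (fun i => (Fσ.tor _).2 (ht i)) ht
    (c := z⁻¹ * σ z) (by rw [hG]; exact Subgroup.mem_top _) e1
  have F0 := (Fr.conj H hk).mul Fσ
  have ht0 : ∀ i, (MulAut.conj k * σ) (t i) = t i := by
    intro i
    show k * σ (t i) * k⁻¹ = t i
    rw [hkt]; group
  obtain ⟨y, hy, ey⟩ := hL _ _ F0 ht0 _ hm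
  have hyt := fun i => MF_comm C ht hy i
  refine ⟨z * y⁻¹, k, w, ?_, fun i => ?_, ?_, hk, F0, ht0⟩
  · have e : z⁻¹ * (z * y⁻¹) = y⁻¹ := by group
    rw [e]; exact inv_mem hy
  · calc (z * y⁻¹)⁻¹ * x i * (z * y⁻¹) = y * (z⁻¹ * x i * z) * y⁻¹ := by group
      _ = t i := by rw [hz, hyt]; group
  · have h3 : z⁻¹ * σ z = y⁻¹ * k * σ y := by
      rw [hc, ey]
      show y⁻¹ * (k * σ y * k⁻¹) * k = _
      group
    rw [map_mul, map_inv]
    calc (z * y⁻¹)⁻¹ * (σ z * (σ y)⁻¹) = y * (z⁻¹ * σ z) * (σ y)⁻¹ := by group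
      _ = k := by rw [h3]; group

/-- the reflections of the roots of `SF t` are represented in `MF t` -/
theorem exists_rfl_MF [Finite W] (hA : ChAdd cs h (TL T) χ) {t : ι → Y} (ht : ∀ i, t i ∈ TL T) {a : I → ℤ}
    (ha : a ∈ SF cs h χ t) : ∃ w i, a = rep cs h w (sr i) ∧ ∃ m ∈ MF cs h (XL X) χ t, Rp cs H.nsys (rfl' cs w i) m := by
  obtain ⟨⟨w, i, hw⟩, h2⟩ := id ha
  refine ⟨w, i, hw, ?_⟩
  obtain ⟨j⟩ := H.ne
  obtain ⟨m, hm, hm'⟩ := Cfsg.Agent.BpExc.TorCent.exists_rfl (H.rgd j) w i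
  rw [← hw] at hm
  have hneg := SF_neg hA ht ha
  have h3 : (X j a ⊔ X j (-a)) ≤ MF cs h (XL X) χ t :=
    sup_le ((le_XL j a).trans (RGD.le_Sup ha)) ((le_XL j _).trans (RGD.le_Sup hneg))
  have hTn : T j ≤ Subgroup.normalizer ((X j a ⊔ X j (-a) : Subgroup Y) : Set Y) := by
    intro s hs
    rw [mem_normalizer_iff_cj, cj_sup, (H.rgd j).tor a ha.1 s hs, (H.rgd j).tor (-a) ha.1.neg s hs]
  have h4 : m ∈ ((T j ⊔ (X j a ⊔ X j (-a)) : Subgroup Y) : Set Y) := hm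
  rw [Subgroup.coe_mul_of_left_le_normalizer_right _ _ hTn, Set.mem_mul] at h4
  obtain ⟨s, hs, u, hu, e⟩ := h4
  refine ⟨u, h3 hu, H.rp_up (j := j) ?_⟩
  have h5 := (rp_of_mem (cs := cs) (hN := (H.rgd j).nsys) (inv_mem hs)).mul hm'
  rw [one_mul] at h5
  have h6 : s⁻¹ * m = u := by rw [← e]; group
  rwa [h6] at h5

/-- **The adjustment.** -/
theorem adjust [Finite W] (hA : ChAdd cs h (TL T) χ) {σ : MulAut Y} {x t : ι → Y} {z k : Y}
    {g : (I → ℤ) ≃+ (I → ℤ)} (hz : ∀ i, z⁻¹ * x i * z = t i) (ht : ∀ i, t i ∈ TL T) (hk : z⁻¹ * σ z = k)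
    (F0 : Fr cs h (TL T) (XL X) (MulAut.conj k * σ) g) (ht0 : ∀ i, (MulAut.conj k * σ) (t i) = t i)
    (hL : ∀ (k : Y) (g' : (I → ℤ) ≃+ (I → ℤ)), Fr cs h (TL T) (XL X) (MulAut.conj k * σ) g' →
      (∀ i, (MulAut.conj k * σ) (t i) = t i) → ∀ m ∈ MF cs h (XL X) χ t, ∃ y ∈ MF cs h (XL X) χ t,
      m = y⁻¹ * (MulAut.conj k * σ) y) :
    ∃ (z' k' : Y) (v : W), z⁻¹ * z' ∈ MF cs h (XL X) χ t ∧ (∀ i, z'⁻¹ * x i * z' = t i) ∧ z'⁻¹ * σ z' = k' ∧
      Fr cs h (TL T) (XL X) (MulAut.conj k' * σ) ((repAut cs h v).trans g) ∧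
      (∀ i, (MulAut.conj k' * σ) (t i) = t i) ∧
      v ∈ Subgroup.closure {r | ∃ w i, rep cs h w (sr i) ∈ SF cs h χ t ∧ r = rfl' cs w i} ∧
      ∀ a ∈ SF cs h χ t, 0 ≤ a → 0 ≤ g (rep cs h v a) := by
  let V₀ : Subgroup W := Subgroup.closure {r | ∃ w i, rep cs h w (sr i) ∈ SF cs h χ t ∧ r = rfl' cs w i}
  let V : Subgroup W :=
    { carrier := {v | ∃ m ∈ MF cs h (XL X) χ t, Rp cs H.nsys v m}
      one_mem' := ⟨1, one_mem _, rp_one⟩
      mul_mem' := by
        rintro a b ⟨m, hm, hm'⟩ ⟨m', hm1, hm2⟩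
        exact ⟨m * m', mul_mem hm hm1, hm'.mul hm2⟩
      inv_mem' := by
        rintro a ⟨m, hm, hm'⟩
        exact ⟨m⁻¹, inv_mem hm, hm'.inv⟩ }
  obtain ⟨v, ⟨⟨m₁, hm₁, hv⟩, hv0⟩, hpos⟩ := Cfsg.Agent.BpExc.Fr.exists_adjust (cs := cs) (h := h) (SF cs h χ t) (V ⊓ V₀)
    (fun a ha => by
      obtain ⟨w, i, e, h1⟩ := exists_rfl_MF H C hA ht ha
      exact ⟨w, i, e, h1, Subgroup.subset_closure ⟨w, i, e ▸ ha, rfl⟩⟩) g (fun a ha => (F0.root a).2 ha)
  have hm₁t := fun i => MF_comm C ht hm₁ i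
  have F1 := F0.mul (Fr.conj H hv)
  have e2 : MulAut.conj k * σ * MulAut.conj m₁ = MulAut.conj (k * σ m₁) * σ := by
    ext y
    show k * σ (m₁ * y * m₁⁻¹) * k⁻¹ = k * σ m₁ * σ y * (k * σ m₁)⁻¹
    rw [map_mul, map_mul, map_inv]; group
  rw [e2] at F1
  have ht1 : ∀ i, (MulAut.conj (k * σ m₁) * σ) (t i) = t i := by
    intro i
    rw [← e2]
    show (MulAut.conj k * σ) (m₁ * t i * m₁⁻¹) = t i
    rw [hm₁t, mul_inv_cancel_right, ht0]
  have hm' : ((MulAut.conj k * σ) m₁)⁻¹ ∈ MF cs h (XL X) χ t :=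
    inv_mem ((Fr_mem_MF C F0 ht ht0 m₁).2 hm₁)
  obtain ⟨y, hy, ey⟩ := hL _ _ F1 ht1 _ hm'
  have hyt := fun i => MF_comm C ht hy i
  refine ⟨z * y⁻¹, k * σ m₁, v, ?_, fun i => ?_, ?_, F1, ht1, hv0, hpos⟩
  · have e : z⁻¹ * (z * y⁻¹) = y⁻¹ := by group
    rw [e]; exact inv_mem hy
  · calc (z * y⁻¹)⁻¹ * x i * (z * y⁻¹) = y * (z⁻¹ * x i * z) * y⁻¹ := by group
      _ = t i := by rw [hz, hyt]; group
  · have h3 : k = y⁻¹ * (k * σ m₁) * σ y := by
      have h5 : (k * σ m₁ * k⁻¹)⁻¹ = y⁻¹ * (k * σ m₁ * σ y * (k * σ m₁)⁻¹) := ey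
      calc k = (k * σ m₁ * k⁻¹)⁻¹ * (k * σ m₁) := by group
        _ = _ := by rw [h5]; group
    rw [map_mul, map_inv]
    calc (z * y⁻¹)⁻¹ * (σ z * (σ y)⁻¹) = y * (z⁻¹ * σ z) * (σ y)⁻¹ := by group
      _ = k * σ m₁ := by rw [hk]; nth_rw 1 [h3]; group

end Cfsg.Agent.H225.Gen
end

-- part: H225/Gen/Stab
section
/-!
# Density for the centralisers of toral subgroups (S2187, helper225)

* `frameD` : the frame of a finite toral family fixed by `σ`; `adjustD`;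
* `stabU_centF` : `L` is stable under the `σ`-fixed `r`-elements commuting with all `x i`, `z x_i z⁻¹ ∈ TT`: then `L` is
  stable under `z⁻¹ X_γ z`, `γ ∈ SF (z x z⁻¹)`;
* `exists_hyp` : every root is trivial on a subgroup of index `p` of a toral elementary abelian group `E ≠ 1`;
* `stabU_topF` : `L` stable under the `σ`-fixed `r`-elements of the centralisers of the subgroups of index `p` of the toral
  group `E`, `|E| ≥ p²` (or `> 1`): then `L` is stable under `D.group k`.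
-/

set_option autoImplicit false
set_option linter.unusedSectionVars false
set_option linter.unusedVariables false

namespace Cfsg.Agent.H225.Gen

open CoxeterSystem Cfsg Cfsg.Lie Cfsg.Lie.ChevalleyDatum
open Cfsg.Agent.ChevalleyStructure Cfsg.Agent.ChevalleyStructure.Elts Cfsg.Agent.ChevalleyStructure.CoxeterGeom
  Cfsg.Agent.ChevalleyStructure.CoxeterGeomTypes Cfsg.Agent.ChevalleyStructure.NPerm
open Cfsg.Agent.Tits.Roots Cfsg.Agent.Tits.Core Cfsg.Agent.Nodes Cfsg.Agent.Nodes.Reps Cfsg.Agent.Nodes.BNOf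
  Cfsg.Agent.Nodes.SubComb Cfsg.Agent.Nodes.RGDChev Cfsg.Agent.Nodes.Bruhat Cfsg.Agent.Nodes.NormalForm Cfsg.Agent.Nodes.StabComb
open Cfsg.Agent.KFacts.RgdField Cfsg.Agent.KFacts.RgdChevCoord
open Cfsg.Agent.BpExc Cfsg.Agent.BpExc.TorCent Cfsg.Agent.BpExc.TorChev Cfsg.Agent.BpExc.Tow
  Cfsg.Agent.BpExc.TowChev Cfsg.Agent.BpExc.Fr Cfsg.Agent.BpExc.Pair Cfsg.Agent.BpExc.LangFr Cfsg.Agent.GpExc.Field
  Cfsg.Agent.BpExc.NInst Cfsg.Agent.BpExc.NChev Cfsg.Agent.BpExc.Asm Cfsg.Agent.H469.Exc Cfsg.Agent.H316.U3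
open scoped commutatorElement

universe u v

variable {D : ChevalleyDatum} {l : ℕ} {M : CoxeterMatrix (Fin l)} (hp : IsType D l M) {k : Type u} [Field k]
  {W : Type v} [Group W] (cs : CoxeterSystem M W)

section Frames

variable [IsAlgClosed k] (hk : LocFin k) {r e : ℕ} [Fact r.Prime] [CharP k r] (he : 0 < e)
  {σ : MulAut ↥(D.group k)} (hσ : IsFrob r e σ) {ι : Type*} [Finite ι]

include he hσ in
theorem langF {t : ι → ↥(D.group k)} (ht : ∀ i, t i ∈ TT D k) (k' : ↥(D.group k))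
    (g' : (Fin l → ℤ) ≃+ (Fin l → ℤ)) (F' : Fr cs hp.isCartan (TT D k) (XX D l k) (MulAut.conj k' * σ) g')
    (htt : ∀ i, (MulAut.conj k' * σ) (t i) = t i) (hk : LocFin k) :
    ∀ m ∈ MF cs hp.isCartan (XX D l k) (ch hp) t, ∃ y ∈ MF cs hp.isCartan (XX D l k) (ch hp) t,
      m = y⁻¹ * (MulAut.conj k' * σ) y := by
  intro m hm
  have hTL := TL_eq (k := k) hp hk
  have hXL := XL_eq (k := k) hp hk
  have C := coordsL (k := k) hp cs hk r
  have C' : Coords cs hp.isCartan (TL (Tj hp (k := k))) (nc hp k) (XL (Xj hp (k := k))) (xc hp) (ch hp) := by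
    rw [hTL, hXL]; exact C
  have F'' : Fr cs hp.isCartan (TL (Tj hp (k := k))) (XL (Xj hp (k := k))) (MulAut.conj k' * σ) g' := by
    rw [hTL, hXL]; exact F'
  exact lang_fr hp cs he (hσ.conj_mul k') F' (S := SF cs hp.isCartan (ch hp) t) (fun a ha => ha.1)
    (fun a ha => (Fr_mem_SF C' F'' (fun i => by rw [hTL]; exact ht i) htt a).2 ha) hm

include hk he hσ in
/-- **The frame of a toral family.** -/
theorem frameD {g : (Fin l → ℤ) ≃+ (Fin l → ℤ)} (Fσ : Fr cs hp.isCartan (TT D k) (XX D l k) σ g)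
    {x t : ι → ↥(D.group k)} {z : ↥(D.group k)} (hσx : ∀ i, σ (x i) = x i)
    (hz : ∀ i, z⁻¹ * x i * z = t i) (ht : ∀ i, t i ∈ TT D k) :
    ∃ (z' k' : ↥(D.group k)) (w : W), z⁻¹ * z' ∈ MF cs hp.isCartan (XX D l k) (ch hp) t ∧
      (∀ i, z'⁻¹ * x i * z' = t i) ∧ z'⁻¹ * σ z' = k' ∧
      Fr cs hp.isCartan (TT D k) (XX D l k) (MulAut.conj k' * σ) (g.trans (repAut cs hp.isCartan w)) ∧
      ∀ i, (MulAut.conj k' * σ) (t i) = t i := by
  have := finite_W hp cs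
  have H := tow (k := k) hp cs hk r
  have hTL := TL_eq (k := k) hp hk
  have hXL := XL_eq (k := k) hp hk
  have C := coordsL (k := k) hp cs hk r
  have hG := GG_eq_top (k := k) hp cs hk
  have C' : Coords cs hp.isCartan (TL (Tj hp (k := k))) (nc hp k) (XL (Xj hp (k := k))) (xc hp) (ch hp) := by
    rw [hTL, hXL]; exact C
  have Fσ' : Fr cs hp.isCartan (TL (Tj hp (k := k))) (XL (Xj hp (k := k))) σ g := by rw [hTL, hXL]; exact Fσ
  have ht' : ∀ i, t i ∈ TL (Tj hp (k := k)) := fun i => by rw [hTL]; exact ht i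
  obtain ⟨z', k', w, h1, h2, h3, h4, h5, h6⟩ := frame H C' hG Fσ' hσx hz ht' (fun k' g' F' htt => by
    rw [hXL]
    rw [hTL, hXL] at F'
    exact langF hp cs he hσ ht k' g' F' htt hk)
  rw [hXL] at h1
  rw [hTL, hXL] at h5
  exact ⟨z', k', w, h1, h2, h3, h5, h6⟩

include hk he hσ in
/-- **The adjustment.** -/
theorem adjustD {x t : ι → ↥(D.group k)} {z k₀ : ↥(D.group k)} {g : (Fin l → ℤ) ≃+ (Fin l → ℤ)}
    (hz : ∀ i, z⁻¹ * x i * z = t i) (ht : ∀ i, t i ∈ TT D k) (hk₀ : z⁻¹ * σ z = k₀)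
    (F0 : Fr cs hp.isCartan (TT D k) (XX D l k) (MulAut.conj k₀ * σ) g)
    (ht0 : ∀ i, (MulAut.conj k₀ * σ) (t i) = t i) :
    ∃ (z' k' : ↥(D.group k)) (v : W), z⁻¹ * z' ∈ MF cs hp.isCartan (XX D l k) (ch hp) t ∧
      (∀ i, z'⁻¹ * x i * z' = t i) ∧ z'⁻¹ * σ z' = k' ∧
      Fr cs hp.isCartan (TT D k) (XX D l k) (MulAut.conj k' * σ) ((repAut cs hp.isCartan v).trans g) ∧
      (∀ i, (MulAut.conj k' * σ) (t i) = t i) ∧
      v ∈ Subgroup.closure {q | ∃ w i, rep cs hp.isCartan w (sr i) ∈ SF cs hp.isCartan (ch hp) t ∧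
        q = rfl' cs w i} ∧
      ∀ a ∈ SF cs hp.isCartan (ch hp) t, 0 ≤ a → 0 ≤ g (rep cs hp.isCartan v a) := by
  have := finite_W hp cs
  have H := tow (k := k) hp cs hk r
  have hTL := TL_eq (k := k) hp hk
  have hXL := XL_eq (k := k) hp hk
  have C := coordsL (k := k) hp cs hk r
  have hA := chAddL (k := k) hp cs hk r
  have C' : Coords cs hp.isCartan (TL (Tj hp (k := k))) (nc hp k) (XL (Xj hp (k := k))) (xc hp) (ch hp) := by
    rw [hTL, hXL]; exact C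
  have hA' : ChAdd cs hp.isCartan (TL (Tj hp (k := k))) (ch (K := k) hp) := by rw [hTL]; exact hA
  have ht' : ∀ i, t i ∈ TL (Tj hp (k := k)) := fun i => by rw [hTL]; exact ht i
  obtain ⟨z', k', v, h1, h2, h3, h4, h5, h6, h7⟩ := adjust H C' hA' hz ht' hk₀ (by rw [hTL, hXL]; exact F0) ht0
    (fun k' g' F' htt => by
      rw [hXL]
      rw [hTL, hXL] at F'
      exact langF hp cs he hσ ht k' g' F' htt hk)
  rw [hXL] at h1
  rw [hTL, hXL] at h4
  exact ⟨z', k', v, h1, h2, h3, h4, h5, h6, h7⟩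

/-- the elements of `MF` commute with the family -/
theorem MF_commD (hk : LocFin k) (r : ℕ) [Fact r.Prime] [CharP k r] {t : ι → ↥(D.group k)} (ht : ∀ i, t i ∈ TT D k)
    {y : ↥(D.group k)}
    (hy : y ∈ MF cs hp.isCartan (XX D l k) (ch hp) t) (i : ι) : y * t i = t i * y := by
  have hTL := TL_eq (k := k) hp hk
  have hXL := XL_eq (k := k) hp hk
  have C := coordsL (k := k) hp cs hk r
  have C' : Coords cs hp.isCartan (TL (Tj hp (k := k))) (nc hp k) (XL (Xj hp (k := k))) (xc hp) (ch hp) := by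
    rw [hTL, hXL]; exact C
  exact MF_comm C' (fun i => by rw [hTL]; exact ht i) (by rw [hXL]; exact hy) i

/-- the elements of `Sup XX Neg` are `r`-elements -/
theorem pow_of_negD (hk : LocFin k) (r : ℕ) [Fact r.Prime] [CharP k r] {y : ↥(D.group k)}
    {S : Set (Fin l → ℤ)} (hS : ∀ a ∈ S, IsRoot cs hp.isCartan a ∧ a ≤ 0)
    (hy : y ∈ RGD.Sup (XX D l k) S) : ∃ j, y ^ r ^ j = 1 := by
  have := finite_W hp cs
  have H := tow (k := k) hp cs hk r
  obtain ⟨c, -, hc⟩ := H.exists_rp (w0 cs)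
  have Fc := Fr.conj H hc
  rw [TL_eq (k := k) hp hk, XL_eq (k := k) hp hk] at Fc
  have h6 : c * y * c⁻¹ ∈ RGD.Sup (XX D l k) (RGD.Pos cs hp.isCartan) := by
    have h7 : RGD.Sup (XX D l k) S ≤
        (RGD.Sup (XX D l k) (RGD.Pos cs hp.isCartan)).comap (MulAut.conj c).toMonoidHom := by
      refine RGD.Sup_le fun a ha => ?_
      intro w hw
      have h8 : repAut cs hp.isCartan (w0 cs) a ∈ RGD.Pos cs hp.isCartan :=
        ⟨(hS a ha).1.act _, rep_w0_nonneg (hS a ha).1 (hS a ha).2⟩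
      exact RGD.le_Sup (X := XX D l k) h8 ((Fc.map a (hS a ha).1 w).2 hw)
    exact h7 hy
  obtain ⟨j, hj⟩ := pow_of_pos hp cs hk (r := r) h6
  refine ⟨j, ?_⟩
  rw [conj_pow] at hj
  have h8 : c * y ^ r ^ j = c := mul_inv_eq_one.1 hj
  exact mul_eq_left.1 h8

/-- root elements are `r`-elements -/
theorem pow_of_rootD (hk : LocFin k) (r : ℕ) [Fact r.Prime] [CharP k r] {y : ↥(D.group k)}
    {a : Fin l → ℤ} (ha : IsRoot cs hp.isCartan a) (hy : y ∈ XX D l k a) : ∃ j, y ^ r ^ j = 1 := by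
  rcases ha.pos_or_neg with h0 | h0
  · exact pow_of_pos hp cs hk (r := r) (RGD.le_Sup (X := XX D l k) (S := RGD.Pos cs hp.isCartan) ⟨ha, h0⟩ hy)
  · exact pow_of_negD hp cs hk r (S := {b | IsRoot cs hp.isCartan b ∧ b ≤ 0}) (fun b hb => hb)
      (RGD.le_Sup (X := XX D l k) (S := {b | IsRoot cs hp.isCartan b ∧ b ≤ 0}) ⟨ha, h0⟩ hy)

include hk he hσ in
/-- **The centraliser of a toral family.** -/
theorem stabU_centF (hd : Density hp cs k r e) {g : (Fin l → ℤ) ≃+ (Fin l → ℤ)}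
    (Fσ : Fr cs hp.isCartan (TT D k) (XX D l k) σ g) {x : ι → ↥(D.group k)} {z : ↥(D.group k)}
    (hσx : ∀ i, σ (x i) = x i) (hz : ∀ i, z * x i * z⁻¹ ∈ TT D k) {L : Submodule k (D.Idx → k)}
    (hL : ∀ u, σ u = u → (∀ i, u * x i = x i * u) → (∃ j, u ^ r ^ j = 1) → StabU L u) {γ : Fin l → ℤ}
    (hγ : γ ∈ SF cs hp.isCartan (ch hp) fun i => z * x i * z⁻¹) {u : ↥(D.group k)} (hu : u ∈ XX D l k γ) :
    StabU L (z⁻¹ * u * z) := by
  have := finite_W hp cs
  have H := tow (k := k) hp cs hk r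
  have hTL := TL_eq (k := k) hp hk
  have hXL := XL_eq (k := k) hp hk
  have C := coordsL (k := k) hp cs hk r
  have hA := chAddL (k := k) hp cs hk r
  have C' : Coords cs hp.isCartan (TL (Tj hp (k := k))) (nc hp k) (XL (Xj hp (k := k))) (xc hp) (ch hp) := by
    rw [hTL, hXL]; exact C
  have hA' : ChAdd cs hp.isCartan (TL (Tj hp (k := k))) (ch (K := k) hp) := by rw [hTL]; exact hA
  set t : ι → ↥(D.group k) := fun i => z * x i * z⁻¹ with ht
  have ht' : ∀ i, t i ∈ TL (Tj hp (k := k)) := fun i => by rw [hTL]; exact hz i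
  obtain ⟨z₀, k₀, w, a1, a2, a3, a5, a6⟩ := frameD hp cs hk he hσ Fσ hσx (z := z⁻¹) (t := t)
    (fun i => by rw [ht]; group) hz
  obtain ⟨z', k', v, b1, b2, b3, b4, b5, -, b7⟩ := adjustD hp cs hk he hσ a2 hz a3 a5 a6
  set g' : (Fin l → ℤ) ≃+ (Fin l → ℤ) := (repAut cs hp.isCartan v).trans (g.trans (repAut cs hp.isCartan w)) with hg'
  have b4' : Fr cs hp.isCartan (TL (Tj hp (k := k))) (XL (Xj hp (k := k))) (MulAut.conj k' * σ) g' := by
    rw [hTL, hXL]; exact b4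
  have hgS : ∀ a, g' a ∈ SF cs hp.isCartan (ch hp) t ↔ a ∈ SF cs hp.isCartan (ch hp) t :=
    Fr_mem_SF C' b4' ht' b5
  have h5 : ∀ a ∈ SF cs hp.isCartan (ch hp) t, 0 ≤ a → 0 ≤ g' a := b7
  have hτ := hσ.conj_mul k'
  set τ : MulAut ↥(D.group k) := MulAut.conj k' * σ with hτdef
  -- the stable subspace
  have key : ∀ y : ↥(D.group k), τ y = y → (∀ i, y * t i = t i * y) → (∃ j, y ^ r ^ j = 1) → StabU (tr L z') y := by
    intro y hy hyt ⟨j, hj⟩
    rw [stabU_tr]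
    refine hL _ ?_ (fun i => ?_) ⟨j, ?_⟩
    · have h6 : k' * σ y * k'⁻¹ = y := hy
      have h7 : σ z' = z' * k' := by rw [← b3]; group
      rw [map_mul, map_mul, map_inv, h7]
      calc z' * k' * σ y * (z' * k')⁻¹ = z' * (k' * σ y * k'⁻¹) * z'⁻¹ := by group
        _ = _ := by rw [h6]
    · have h6 : x i = z' * t i * z'⁻¹ := by rw [← b2]; group
      rw [h6]
      calc z' * y * z'⁻¹ * (z' * t i * z'⁻¹) = z' * (y * t i) * z'⁻¹ := by group
        _ = z' * (t i * y) * z'⁻¹ := by rw [hyt]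
        _ = _ := by group
    · show (z' * y * z'⁻¹) ^ r ^ j = 1
      rw [conj_pow, hj, mul_one, mul_inv_cancel]
  have hcent : ∀ S ⊆ SF cs hp.isCartan (ch hp) t, ∀ y ∈ RGD.Sup (XX D l k) S, ∀ i, y * t i = t i * y := by
    intro S hSs y hy i
    have h6 : y ∈ MF cs hp.isCartan (XX D l k) (ch hp) t := RGD.Sup_mono hSs hy
    exact MF_commD hp cs hk r hz h6 i
  have hcl : ∀ a ∈ SF cs hp.isCartan (ch hp) t, ∀ b ∈ SF cs hp.isCartan (ch hp) t, ∀ i j : ℕ,
      IsRoot cs hp.isCartan (i • a + j • b) → i • a + j • b ∈ SF cs hp.isCartan (ch hp) t := by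
    intro a ha b hb i j hij
    have := SF_closed hA' ht' ha hb (i : ℤ) (j : ℤ) (by rwa [natCast_zsmul, natCast_zsmul])
    rwa [natCast_zsmul, natCast_zsmul] at this
  have hneg : ∀ a ∈ SF cs hp.isCartan (ch hp) t, -a ∈ SF cs hp.isCartan (ch hp) t := fun a ha => SF_neg hA' ht' ha
  -- positive roots
  have hP : ∀ y ∈ RGD.Sup (XX D l k) {a | a ∈ SF cs hp.isCartan (ch hp) t ∧ 0 ≤ a}, StabU (tr L z') y := by
    refine hd τ hτ g' b4 {a | a ∈ SF cs hp.isCartan (ch hp) t ∧ 0 ≤ a} (fun a ha => ⟨ha.1.1, ha.2⟩)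
      (fun a ha => ⟨(hgS a).2 ha.1, h5 a ha.1 ha.2⟩) ?_ _ ?_
    · intro a ha b hb i j _ _ hij
      exact ⟨hcl a ha.1 b hb.1 i j hij, add_nonneg (nsmul_nonneg ha.2 i) (nsmul_nonneg hb.2 j)⟩
    · intro y hy hyτ
      refine key y hyτ (hcent _ (fun a ha => ha.1) y hy) (pow_of_pos hp cs hk (r := r) ?_)
      exact RGD.Sup_mono (X := XX D l k) (S' := RGD.Pos cs hp.isCartan)
        (fun a ha => ⟨ha.1.1, ha.2⟩) hy
  have hN : ∀ y ∈ RGD.Sup (XX D l k) {a | a ∈ SF cs hp.isCartan (ch hp) t ∧ a ≤ 0}, StabU (tr L z') y := by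
    refine Density.neg hp cs hk hd hτ b4 (S := {a | a ∈ SF cs hp.isCartan (ch hp) t ∧ a ≤ 0})
      (fun a ha => ⟨ha.1.1, ha.2⟩)
      (fun a ha => ?_) ?_ _ ?_
    · refine ⟨(hgS a).2 ha.1, ?_⟩
      have h6 := h5 (-a) (hneg a ha.1) (neg_nonneg.2 ha.2)
      rw [map_neg] at h6
      exact neg_nonneg.1 h6
    · intro a ha b hb i j _ _ hij
      refine ⟨hcl a ha.1 b hb.1 i j hij, ?_⟩
      have h6 := add_nonneg (nsmul_nonneg (neg_nonneg.2 ha.2) i) (nsmul_nonneg (neg_nonneg.2 hb.2) j)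
      rw [smul_neg, smul_neg, ← neg_add, neg_nonneg] at h6
      exact h6
    · intro y hy hyτ
      exact key y hyτ (hcent _ (fun a ha => ha.1) y hy) (pow_of_negD hp cs hk r (fun a ha => ⟨ha.1.1, ha.2⟩) hy)
  -- everything
  have hall : MF cs hp.isCartan (XX D l k) (ch hp) t ≤ stab (tr L z') := by
    refine RGD.Sup_le fun a ha => ?_
    intro y hy
    rw [mem_stab]
    rcases ha.1.pos_or_neg with h6 | h6
    · exact hP y (RGD.le_Sup (X := XX D l k) (S := {a | a ∈ SF cs hp.isCartan (ch hp) t ∧ 0 ≤ a}) ⟨ha, h6⟩ hy)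
    · exact hN y (RGD.le_Sup (X := XX D l k) (S := {a | a ∈ SF cs hp.isCartan (ch hp) t ∧ a ≤ 0}) ⟨ha, h6⟩ hy)
  -- independence of `z`
  have hc : z * z' ∈ MF cs hp.isCartan (XX D l k) (ch hp) t := by
    have e1 : z * z' = z⁻¹⁻¹ * z₀ * (z₀⁻¹ * z') := by group
    rw [e1]
    exact mul_mem a1 b1
  have hu' : u ∈ MF cs hp.isCartan (XX D l k) (ch hp) t := RGD.le_Sup (X := XX D l k) hγ hu
  have h7 := hall (mul_mem (mul_mem (inv_mem hc) hu') hc)
  rw [mem_stab, stabU_tr] at h7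
  have e2 : z' * ((z * z')⁻¹ * u * (z * z')) * z'⁻¹ = z⁻¹ * u * z := by group
  rwa [e2] at h7

end Frames

/-- the character values -/
theorem ch_mulD (hk : LocFin k) (r : ℕ) [Fact r.Prime] [CharP k r] {γ : Fin l → ℤ} (hγ : IsRoot cs hp.isCartan γ)
    {z a b : ↥(D.group k)} (ha : z * a * z⁻¹ ∈ TT D k) (hb : z * b * z⁻¹ ∈ TT D k) :
    ch hp γ (z * (a * b) * z⁻¹) = ch hp γ (z * a * z⁻¹) * ch hp γ (z * b * z⁻¹) := by
  have C := coordsL (k := k) hp cs hk r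
  have e1 : z * (a * b) * z⁻¹ = z * a * z⁻¹ * (z * b * z⁻¹) := by group
  rw [e1, (C.coord γ hγ).chi_mul ha hb]

/-- **Every root is trivial on a subgroup of index `p`.** -/
theorem exists_hyp (hk : LocFin k) (r : ℕ) [Fact r.Prime] [CharP k r] {p : ℕ} (hpp : p.Prime)
    {E : Subgroup ↥(D.group k)} [Finite ↥E] (hEp : ∀ a ∈ E, a ^ p = 1)
    (hyp : ∃ F ≤ E, (F.subgroupOf E).index = p) {z : ↥(D.group k)}
    (hz : ∀ a ∈ E, z * a * z⁻¹ ∈ TT D k) {γ : Fin l → ℤ} (hγ : IsRoot cs hp.isCartan γ) :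
    ∃ F ≤ E, (F.subgroupOf E).index = p ∧ ∀ a ∈ F, ch hp γ (z * a * z⁻¹) = 1 := by
  classical
  have C := coordsL (k := k) hp cs hk r
  have hone : ch (K := k) hp γ 1 = 1 := by
    have h1 := (C.coord γ hγ).chi_mul (one_mem (TT D k)) (one_mem _)
    rw [mul_one] at h1
    exact (mul_eq_left₀ ((C.coord γ hγ).chi_ne_zero (one_mem _))).1 h1.symm
  have hval : ∀ a ∈ E, ch hp γ (z * a * z⁻¹) ^ p = 1 := fun a ha => by
    rw [← ch_pow hp cs hk (r := r) hγ (hz a ha), conj_pow, hEp _ ha, mul_one, mul_inv_cancel, hone]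
  let f : ↥E →* kˣ :=
    { toFun := fun a => Units.mk0 (ch hp γ (z * a.1 * z⁻¹)) ((C.coord γ hγ).chi_ne_zero (hz a.1 a.2))
      map_one' := by
        ext
        show ch hp γ (z * 1 * z⁻¹) = 1
        rw [mul_one, mul_inv_cancel, hone]
      map_mul' := fun a b => by
        ext
        exact ch_mulD hp cs hk r hγ (hz a.1 a.2) (hz b.1 b.2) }
  by_cases hf : ∀ a ∈ E, ch hp γ (z * a * z⁻¹) = 1
  · obtain ⟨F, hF, hFi⟩ := hyp
    exact ⟨F, hF, hFi, fun a ha => hf a (hF ha)⟩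
  · refine ⟨f.ker.map E.subtype, ?_, ?_, ?_⟩
    · rintro _ ⟨a, -, rfl⟩
      exact a.2
    · have h1 : (f.ker.map E.subtype).subgroupOf E = f.ker := by
        rw [Subgroup.subgroupOf, Subgroup.comap_map_eq_self_of_injective E.subtype_injective]
      rw [h1, Subgroup.index_ker]
      -- the range is a nontrivial group of `p`-th roots of unity
      have hle : Nat.card ↥f.range ≤ p := by
        let g : ↥f.range → ↥(Polynomial.nthRootsFinset p (1 : k)) := fun a => ⟨(a.1 : k), by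
          rw [Polynomial.mem_nthRootsFinset hpp.pos]
          obtain ⟨b, hb⟩ := a.2
          rw [← hb]
          exact hval b.1 b.2⟩
        have hg : Function.Injective g := by
          intro a b hab
          exact Subtype.ext (Units.ext (congrArg Subtype.val hab))
        refine le_trans (Nat.card_le_card_of_injective g hg) ?_
        rw [Nat.card_eq_fintype_card, Fintype.card_coe]
        calc (Polynomial.nthRootsFinset p (1 : k)).card ≤ Multiset.card (Polynomial.nthRoots p (1 : k)) := by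
              unfold Polynomial.nthRootsFinset
              exact Multiset.toFinset_card_le _
          _ ≤ p := Polynomial.card_nthRoots p 1
      push Not at hf
      obtain ⟨a, ha, ha1⟩ := hf
      have := Fact.mk hpp
      have h2 : orderOf (f ⟨a, ha⟩) = p := by
        refine orderOf_eq_prime ?_ ?_
        · ext
          exact hval a ha
        · intro h3
          exact ha1 (congrArg Units.val h3)
      have h3 : p ∣ Nat.card ↥f.range := by
        rw [← h2, ← Subgroup.orderOf_mk (f ⟨a, ha⟩) (MonoidHom.mem_range.2 ⟨_, rfl⟩)]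
        exact orderOf_dvd_natCard _
      have : Finite ↥f.range := Finite.of_surjective _ f.rangeRestrict_surjective
      exact le_antisymm hle (Nat.le_of_dvd Nat.card_pos h3)
    · rintro _ ⟨a, ha, rfl⟩
      exact congrArg Units.val ((MonoidHom.mem_ker (f := f)).1 ha)

include cs in
/-- **A subspace stable under the unipotent elements of the centralisers of the hyperplanes of a toral group.** -/
theorem stabU_topF [IsAlgClosed k] (hk : LocFin k) {r e : ℕ} [Fact r.Prime] [CharP k r] (he : 0 < e)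
    (hd : Density hp cs k r e) {σ : MulAut ↥(D.group k)} (hσ : IsFrob r e σ) {g : (Fin l → ℤ) ≃+ (Fin l → ℤ)}
    (Fσ : Fr cs hp.isCartan (TT D k) (XX D l k) σ g) {p : ℕ} (hpp : p.Prime)
    {E : Subgroup ↥(D.group k)} [Finite ↥E] (hEp : ∀ a ∈ E, a ^ p = 1) (hyp : ∃ F ≤ E, (F.subgroupOf E).index = p)
    (hEσ : ∀ a ∈ E, σ a = a)
    {z : ↥(D.group k)} (hz : ∀ a ∈ E, z * a * z⁻¹ ∈ TT D k) {L : Submodule k (D.Idx → k)}
    (hL : ∀ F ≤ E, (F.subgroupOf E).index = p → ∀ u, σ u = u → (∀ x ∈ F, u * x = x * u) → (∃ j, u ^ r ^ j = 1) →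
      StabU L u)
    (u : ↥(D.group k)) : StabU L u := by
  have h1 : RGD.Sup (XX D l k) {a | IsRoot cs hp.isCartan a} ≤ stab (tr L z⁻¹) := by
    refine RGD.Sup_le fun γ hγ => ?_
    intro y hy
    obtain ⟨F, hF, hFi, hFγ⟩ := exists_hyp hp cs hk r hpp hEp hyp hz hγ
    rw [mem_stab, stabU_tr, inv_inv]
    have : Finite ↥F := Finite.of_injective _ (Subgroup.inclusion_injective hF)
    refine stabU_centF hp cs hk he hσ (ι := ↥F) hd Fσ (x := fun i => i.1) (z := z) (fun i => hEσ _ (hF i.2))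
      (fun i => hz _ (hF i.2)) (fun u hu hux hur => hL F hF hFi u hu (fun x hx => hux ⟨x, hx⟩) hur)
      (γ := γ) ⟨hγ, fun i => hFγ _ i.2⟩ hy
  have h2 : RGD.Sup (XX D l k) {a | IsRoot cs hp.isCartan a} = ⊤ := by
    rw [eq_top_iff, ← G1_eq_top (K := k) hp cs]
    exact le_rfl
  rw [h2] at h1
  have h3 := h1 (Subgroup.mem_top (z * u * z⁻¹))
  rw [mem_stab, stabU_tr, inv_inv] at h3
  have e1 : z⁻¹ * (z * u * z⁻¹) * z = u := by group
  rwa [e1] at h3

end Cfsg.Agent.H225.Gen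
end

-- part: H225/Gen/Conj
section
/-!
# Long root groups fixed by a twisted Frobenius are conjugate to `X_θ` (S2187, helper225)

* `comm_of_nd` : `X_γ`, `γ (nd) = 0`, commutes with `X_θ` and `X_{-θ}`;
* `exists_rp_fix` : an element of `W` fixing `θ` is represented in `⟨X_γ : γ (nd) = 0⟩`;
* `conj_th` : `k₁ = z⁻¹ σ(z)`, `conj k₁ σ` a frame automorphism fixing the long root `a`: there is a fixed point `y` of `σ`
  with `X_{± θ}^y = z X_{± a} z⁻¹`.
-/

set_option autoImplicit false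
set_option linter.unusedSectionVars false
set_option linter.unusedVariables false

namespace Cfsg.Agent.H225.Gen

open CoxeterSystem Cfsg Cfsg.Lie Cfsg.Lie.ChevalleyDatum
open Cfsg.Agent.ChevalleyStructure Cfsg.Agent.ChevalleyStructure.Elts Cfsg.Agent.ChevalleyStructure.CoxeterGeom
  Cfsg.Agent.ChevalleyStructure.CoxeterGeomTypes Cfsg.Agent.ChevalleyStructure.NPerm
open Cfsg.Agent.Tits.Roots Cfsg.Agent.Tits.Core Cfsg.Agent.Nodes Cfsg.Agent.Nodes.Reps Cfsg.Agent.Nodes.BNOf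
  Cfsg.Agent.Nodes.RGDChev Cfsg.Agent.Nodes.Bruhat Cfsg.Agent.Nodes.NormalForm Cfsg.Agent.Nodes.StabComb
  Cfsg.Agent.Nodes.Coroot Cfsg.Agent.Nodes.SubComb
open Cfsg.Agent.KFacts.RgdField Cfsg.Agent.KFacts.RgdChevCoord
open Cfsg.Agent.BpExc Cfsg.Agent.BpExc.TorCent Cfsg.Agent.BpExc.TorChev Cfsg.Agent.BpExc.Tow
  Cfsg.Agent.BpExc.TowChev Cfsg.Agent.BpExc.Fr Cfsg.Agent.BpExc.Pair Cfsg.Agent.BpExc.LangFr Cfsg.Agent.GpExc.Field
  Cfsg.Agent.BpExc.NInst Cfsg.Agent.BpExc.NChev Cfsg.Agent.BpExc.Asm Cfsg.Agent.BpExc.CommZ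
open Cfsg.Agent.H818.StrP.UTab Cfsg.Agent.H818.StrP.UAct Cfsg.Agent.H123.ExcComb Cfsg.Agent.H696.GmnToral
open scoped commutatorElement

universe u v

variable {D : ChevalleyDatum} {l : ℕ} {M : CoxeterMatrix (Fin l)} (h : HiList D) (hp : IsType D l M) {k : Type u}
  [Field k] {W : Type v} [Group W] (cs : CoxeterSystem M W)

section Roots

include h in
theorem root_nd {a : Fin l → ℤ} (ha : IsRoot cs hp.isCartan a) : a (nd h hp) ≤ 2 ∧ -2 ≤ a (nd h hp) ∧
    (a (nd h hp) = 2 → a = th D l) ∧ (a (nd h hp) = -2 → a = -th D l) := by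
  have key : ∀ a : Fin l → ℤ, IsRoot cs hp.isCartan a → a (nd h hp) ≤ 2 ∧ (a (nd h hp) = 2 → a = th D l) := by
    intro a ha
    obtain ⟨s, hs, rfl⟩ := (isRoot_iff hp cs a).1 ha
    rw [vec_nd]
    refine ⟨rt_le h hs, fun h2 => ?_⟩
    rw [eq_top h hs h2]
  obtain ⟨h1, h2⟩ := key a ha
  obtain ⟨h3, h4⟩ := key (-a) ha.neg
  rw [Pi.neg_apply] at h3 h4
  refine ⟨h1, by omega, h2, fun h5 => ?_⟩
  rw [← h4 (by omega), neg_neg]

/-- the roots orthogonal to `θ` -/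
def SJ (h : HiList D) (hp : IsType D l M) (cs : CoxeterSystem M W) : Set (Fin l → ℤ) :=
  {a | IsRoot cs hp.isCartan a ∧ a (nd h hp) = 0}

/-- **Root groups commuting with `X_{± θ}`.** -/
theorem comm_of_nd {γ β : Fin l → ℤ} (hγ : γ ∈ SJ h hp cs) (hβ : β = th D l ∨ β = -th D l) {x y : ↥(D.group k)}
    (hx : x ∈ XX D l k γ) (hy : y ∈ XX D l k β) : x * y = y * x := by
  have hθ := th_root h hp cs
  have hθn := th_nd (D := D) (l := l) h hp
  obtain ⟨hβr, hβn, hβu⟩ : IsRoot cs hp.isCartan β ∧ (β (nd h hp) = 2 ∨ β (nd h hp) = -2) ∧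
      ∀ z, IsRoot cs hp.isCartan z → z (nd h hp) = β (nd h hp) → z = β := by
    rcases hβ with rfl | rfl
    · exact ⟨hθ, Or.inl hθn, fun z hz h1 => (root_nd h hp cs hz).2.2.1 (by rw [h1, hθn])⟩
    · refine ⟨hθ.neg, Or.inr (by rw [Pi.neg_apply, hθn]), fun z hz h1 => (root_nd h hp cs hz).2.2.2 ?_⟩
      rw [h1, Pi.neg_apply, hθn]
  have h0 := hγ.2
  have h1 : γ ≠ β := by
    rintro rfl
    omega
  have h2 : γ ≠ -β := by
    rintro rfl
    rw [Pi.neg_apply] at h0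
    omega
  have h3 := comm_mem_Z hp cs hγ.1 hβr h1 h2 hx hy
  have h4 : RGD.Sup (XX D l k) (combZ cs hp γ β) ≤ ⊥ := by
    refine RGD.Sup_le fun z hz => ?_
    exfalso
    obtain ⟨hz, i, j, hi, hj, e⟩ := hz
    have h5 : z (nd h hp) = j * β (nd h hp) := by
      rw [e, Pi.add_apply, Pi.smul_apply, Pi.smul_apply, h0, smul_zero, zero_add, nsmul_eq_mul]
    obtain ⟨h6, h7, -, -⟩ := root_nd h hp cs hz
    have h8 : j = 1 := by
      have h9 : (j : ℤ) = 1 := by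
        have hj' : (1 : ℤ) ≤ j := by exact_mod_cast hj
        rcases hβn with h10 | h10
        · rw [h10] at h5; omega
        · rw [h10] at h5; omega
      exact_mod_cast h9
    rw [h8, Nat.cast_one, one_mul] at h5
    have h9 := hβu z hz h5
    rw [h8, one_nsmul, h9] at e
    have h10 : i • γ = 0 := by
      have : β = i • γ + β := e
      exact (add_eq_right.1 this.symm)
    have h11 := hγ.1.ne_zero
    rcases smul_eq_zero.1 h10 with h12 | h12
    · omega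
    · exact h11 h12
  have h5 := Subgroup.mem_bot.1 (h4 h3)
  exact commutatorElement_eq_one_iff_mul_comm.1 h5

end Roots

section Rep

variable [IsAlgClosed k] (hk : LocFin k) (r : ℕ) [Fact r.Prime] [CharP k r]

/-- the reflections of the roots of a set are represented in the group it generates -/
theorem exists_rfl_S {S : Set (Fin l → ℤ)} {w : W} {i : Fin l} (h1 : rep cs hp.isCartan w (sr i) ∈ S)
    (h2 : -rep cs hp.isCartan w (sr i) ∈ S) :
    ∃ m ∈ RGD.Sup (XX D l k) S, Rp cs (tow hp cs hk r (k := k)).nsys (rfl' cs w i) m := by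
  have := finite_W hp cs
  have H := tow hp cs hk r (k := k)
  have hXL := XL_eq (k := k) hp hk
  obtain ⟨j⟩ := H.ne
  obtain ⟨m, hm, hm'⟩ := Cfsg.Agent.BpExc.TorCent.exists_rfl (H.rgd j) w i
  set a := rep cs hp.isCartan w (sr i) with ha
  have har : IsRoot cs hp.isCartan a := ⟨w, i, rfl⟩
  have h3 : (Xj hp j a ⊔ Xj hp j (-a)) ≤ RGD.Sup (XX D l k) S := by
    rw [← hXL]
    exact sup_le ((le_XL j a).trans (RGD.le_Sup h1)) ((le_XL j _).trans (RGD.le_Sup h2))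
  have hTn : Tj hp j ≤ Subgroup.normalizer ((Xj hp j a ⊔ Xj hp j (-a) : Subgroup ↥(D.group k)) : Set ↥(D.group k)) := by
    intro s hs
    rw [mem_normalizer_iff_cj, cj_sup, (H.rgd j).tor a har s hs, (H.rgd j).tor (-a) har.neg s hs]
  have h4 : m ∈ ((Tj hp j ⊔ (Xj hp j a ⊔ Xj hp j (-a)) : Subgroup ↥(D.group k)) : Set ↥(D.group k)) := hm
  rw [Subgroup.coe_mul_of_left_le_normalizer_right _ _ hTn, Set.mem_mul] at h4
  obtain ⟨s, hs, u, hu, e⟩ := h4
  refine ⟨u, h3 hu, H.rp_up (j := j) ?_⟩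
  have h5 := (rp_of_mem (cs := cs) (hN := (H.rgd j).nsys) (inv_mem hs)).mul hm'
  rw [one_mul] at h5
  have h6 : s⁻¹ * m = u := by rw [← e]; group
  rwa [h6] at h5

/-- **Elements of `W` fixing `θ`.** -/
theorem exists_rp_fix {w : W} (hw : rep cs hp.isCartan w (th D l) = th D l) :
    ∃ m ∈ RGD.Sup (XX D l k) (SJ h hp cs), Rp cs (tow hp cs hk r (k := k)).nsys w m := by
  have := finite_W hp cs
  have H := tow hp cs hk r (k := k)
  have hθ := th_root h hp cs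
  let V : Subgroup W :=
    { carrier := {v | (∃ m ∈ RGD.Sup (XX D l k) (SJ h hp cs), Rp cs (tow hp cs hk r (k := k)).nsys v m) ∧
        rep cs hp.isCartan v (th D l) = th D l}
      one_mem' := ⟨⟨1, one_mem _, rp_one⟩, by rw [map_one, Module.End.one_apply]⟩
      mul_mem' := by
        rintro a b ⟨⟨m, hm, hm'⟩, ha⟩ ⟨⟨m', hm1, hm2⟩, hb⟩
        exact ⟨⟨m * m', mul_mem hm hm1, hm'.mul hm2⟩, by rw [rep_mul_apply, hb, ha]⟩
      inv_mem' := by
        rintro a ⟨⟨m, hm, hm'⟩, ha⟩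
        refine ⟨⟨m⁻¹, inv_mem hm, hm'.inv⟩, ?_⟩
        conv_lhs => rw [← ha]
        rw [← rep_mul_apply, inv_mul_cancel, map_one, Module.End.one_apply] }
  have hcpr : ∀ a, IsRoot cs hp.isCartan a → a (nd h hp) = 0 → cpr cs hp.isCartan (th D l) a = 0 := by
    intro a ha h0
    rw [cpr_zero_comm cs hp.isCartan hθ ha, cpr_th h hp cs, h0]
  obtain ⟨v, hvV, hv⟩ := Cfsg.Agent.BpExc.Fr.exists_adjust (cs := cs) (h := hp.isCartan) (SJ h hp cs) V
    (fun a ha => by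
      obtain ⟨u, i, e⟩ := ha.1
      have hneg : -a ∈ SJ h hp cs := ⟨ha.1.neg, by rw [Pi.neg_apply, ha.2]; rfl⟩
      refine ⟨u, i, e, ?_, ?_⟩
      · exact exists_rfl_S hp cs hk r (by rw [← e]; exact ha) (by rw [← e]; exact hneg)
      · rw [rep_rfl'_eq, ← e, hcpr a ha.1 ha.2, zero_smul, sub_zero])
    (repAut cs hp.isCartan w) (fun a ha => ha.act w)
  have h1 : w * v = 1 := by
    by_contra hne
    obtain ⟨i, hi⟩ := FamCent.exists_nonpos (cs := cs) (h := hp.isCartan) hne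
    have hir := isRoot_sr cs hp.isCartan i
    have hwv : rep cs hp.isCartan (w * v) (th D l) = th D l := by rw [rep_mul_apply, hvV.2, hw]
    have hnd : rep cs hp.isCartan (w * v) (sr i) (nd h hp) = (sr i : Fin l → ℤ) (nd h hp) := by
      have h1 := cpr_rep cs hp.isCartan (w * v) (sr i) hθ
      rw [hwv, cpr_th h hp cs, cpr_th h hp cs] at h1
      exact h1
    have hneg : ¬ 0 ≤ rep cs hp.isCartan (w * v) (sr i) := fun h2 =>
      (hir.act (w * v)).not_pos_neg h2 hi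
    by_cases hin : i = nd h hp
    · have h2 := hi (nd h hp)
      rw [hnd, hin, sr_self] at h2
      have h3 : (1 : ℤ) ≤ 0 := h2
      omega
    · apply hneg
      have h2 := hv (sr i) ⟨hir, sr_ne (Ne.symm hin)⟩ (fun j => by
        by_cases hj : j = i
        · rw [hj, sr_self]; exact zero_le_one
        · rw [sr_ne hj]; exact le_rfl)
      rw [repAut_apply, ← rep_mul_apply] at h2
      exact h2
  have h2 : w = v⁻¹ := eq_inv_of_mul_eq_one_left h1
  rw [h2]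
  exact (inv_mem hvV).1

end Rep

section Main

variable [IsAlgClosed k] (hk : LocFin k) {r e : ℕ} [Fact r.Prime] [CharP k r] (he : 0 < e)
  (hZ : Subgroup.center ↥(D.group k) = ⊥) {σ : MulAut ↥(D.group k)} (hσ : IsFrob r e σ)

include h hk he hZ hσ in
/-- **The conjugation.** -/
theorem conj_th {g : (Fin l → ℤ) ≃+ (Fin l → ℤ)} (Fσ : Fr cs hp.isCartan (TT D k) (XX D l k) σ g)
    (hgθ : g (th D l) = th D l) {z k₁ : ↥(D.group k)} (hk₁ : z⁻¹ * σ z = k₁) {g₁ : (Fin l → ℤ) ≃+ (Fin l → ℤ)}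
    (F₁ : Fr cs hp.isCartan (TT D k) (XX D l k) (MulAut.conj k₁ * σ) g₁) {a : Fin l → ℤ} (ha : a ∈ LL cs hp)
    (hga : g₁ a = a) :
    ∃ y : ↥(D.group k), σ y = y ∧ (∀ u ∈ XX D l k (th D l), z⁻¹ * (y * u * y⁻¹) * z ∈ XX D l k a) ∧
      ∀ u ∈ XX D l k (-th D l), z⁻¹ * (y * u * y⁻¹) * z ∈ XX D l k (-a) := by
  have := finite_W hp cs
  have H := tow hp cs hk r (k := k)
  have hTL := TL_eq (k := k) hp hk
  have hXL := XL_eq (k := k) hp hk
  have hθ := th_root h hp cs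
  obtain ⟨w₁, rfl⟩ := ha
  obtain ⟨n, -, hn⟩ := H.exists_rp w₁
  have Fn := Fr.conj H hn
  rw [hTL, hXL] at Fn
  set k₂ : ↥(D.group k) := n⁻¹ * k₁ * σ n with hk₂
  have F₂ := Fn.inv.mul (F₁.mul Fn)
  have e1 : (MulAut.conj n)⁻¹ * (MulAut.conj k₁ * σ * MulAut.conj n) = MulAut.conj k₂ * σ := by
    refine MulEquiv.ext fun y => ?_
    show n⁻¹ * (k₁ * σ (n * y * n⁻¹) * k₁⁻¹) * n⁻¹⁻¹ = k₂ * σ y * k₂⁻¹
    rw [hk₂, map_mul, map_mul, map_inv]
    group
  rw [e1] at F₂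
  obtain ⟨w₂, hw₂, hw₂a⟩ := rep_of_fr hp cs hk r Fσ F₂
  have hfix : rep cs hp.isCartan w₂ (th D l) = th D l := by
    have h1 := hw₂a _ hθ
    rw [hgθ] at h1
    rw [← h1]
    show (repAut cs hp.isCartan w₁).symm (g₁ (rep cs hp.isCartan w₁ (th D l))) = th D l
    rw [hga]
    exact (repAut cs hp.isCartan w₁).symm_apply_apply _
  obtain ⟨m, hm, hmw⟩ := exists_rp_fix h hp cs hk r hfix
  have ht : k₂ * m⁻¹ ∈ TT D k := by
    have h1 := hw₂.inv.unique hmw.inv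
    rw [inv_inv, hTL] at h1
    exact h1
  obtain ⟨u, hu, hus⟩ := torus_lang hp cs hk hZ he hσ Fσ ht
  have hSr : ∀ a ∈ SJ h hp cs, IsRoot cs hp.isCartan a := fun a ha => ha.1
  have hσu : σ u ∈ TT D k := (Fσ.tor u).2 hu
  have hm' : σ u * m * (σ u)⁻¹ ∈ RGD.Sup (XX D l k) (SJ h hp cs) := by
    have h1 := H.T_le_normalizer hSr
    rw [hTL, hXL] at h1
    exact (Subgroup.mem_normalizer_iff.1 (h1 hσu) m).1 hm
  obtain ⟨y₂, hy₂, hy₂m⟩ := lang_fr hp cs he hσ Fσ hSr (fun a ha => by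
    refine ⟨(Fσ.root a).2 ha.1, ?_⟩
    have h1 := cpr_g Fσ.root ha.1 hθ
    rw [hgθ, cpr_th h hp cs, cpr_th h hp cs, ha.2] at h1
    exact h1) hm'
  set y₀ : ↥(D.group k) := y₂ * u with hy₀
  have hy₀k : σ y₀ = y₀ * k₂ := by
    have h1 : k₂ = u⁻¹ * σ u * m := by rw [← hus]; group
    have h2 : σ y₂ = y₂ * (σ u * m * (σ u)⁻¹) := by rw [hy₂m]; group
    rw [hy₀, map_mul, h2, h1]
    group
  have hσz : σ z = z * k₁ := by rw [← hk₁]; group
  refine ⟨z * n * y₀⁻¹, ?_, ?_⟩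
  · rw [map_mul, map_mul, map_inv, hσz, hy₀k]
    have h1 : k₁ * σ n = n * k₂ := by rw [hk₂]; group
    calc z * k₁ * σ n * (y₀ * k₂)⁻¹ = z * (k₁ * σ n) * (y₀ * k₂)⁻¹ := by group
      _ = _ := by rw [h1]; group
  · -- the conjugation of the root groups
    have key : ∀ β, (β = th D l ∨ β = -th D l) → ∀ v ∈ XX D l k β,
        z⁻¹ * (z * n * y₀⁻¹ * v * (z * n * y₀⁻¹)⁻¹) * z ∈ XX D l k (rep cs hp.isCartan w₁ β) := by
      intro β hβ v hv
      have hβr : IsRoot cs hp.isCartan β := by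
        rcases hβ with rfl | rfl
        · exact hθ
        · exact hθ.neg
      have h1 : ∀ y ∈ RGD.Sup (XX D l k) (SJ h hp cs), y * v = v * y := by
        have h2 : RGD.Sup (XX D l k) (SJ h hp cs) ≤ Subgroup.centralizer {v} := by
          refine RGD.Sup_le fun γ hγ => ?_
          intro y hy
          rw [Subgroup.mem_centralizer_singleton_iff]
          exact comm_of_nd h hp cs hγ hβ hy hv
        intro y hy
        have := h2 hy
        rwa [Subgroup.mem_centralizer_singleton_iff] at this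
      have h2 : y₀⁻¹ * v * y₀ = u⁻¹ * v * u := by
        have h3 : y₂⁻¹ * v * y₂ = v := by
          rw [mul_assoc, ← h1 y₂ hy₂]; group
        rw [hy₀]
        calc (y₂ * u)⁻¹ * v * (y₂ * u) = u⁻¹ * (y₂⁻¹ * v * y₂) * u := by group
          _ = _ := by rw [h3]
      have h3 : u⁻¹ * v * u ∈ XX D l k β := by
        have h4 := H.cj_T (t := u⁻¹) (by rw [hTL]; exact inv_mem hu) hβr
        rw [hXL] at h4
        rw [← h4]
        have h5 : u⁻¹ * v * u = u⁻¹ * v * u⁻¹⁻¹ := by rw [inv_inv]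
        rw [h5]
        exact conj_mem_cj.2 hv
      have h4 : z⁻¹ * (z * n * y₀⁻¹ * v * (z * n * y₀⁻¹)⁻¹) * z = n * (y₀⁻¹ * v * y₀) * n⁻¹ := by group
      rw [h4, h2]
      exact (Fn.map β hβr _).2 h3
    refine ⟨fun v hv => key _ (Or.inl rfl) v hv, fun v hv => ?_⟩
    have h1 := key _ (Or.inr rfl) v hv
    rwa [map_neg] at h1

end Main

end Cfsg.Agent.H225.Gen
end
end

-- part: H225/Gen/Fin
section
prune_inst 0x400404000000000018000040001e2292000092004b8800914000440486de0020000e2144200a12001000442030006811000000421000000a000000411900800000000010010100420000002006000000000000000000000000000000041000000000000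
set_option linter.all false
open scoped Cfsg.Agent.FastGrp

/-!
# Generation by the centralisers of the hyperplanes of a toral group (S2187, helper225)

`m : MData hp r q K₀`, `D` one of `G2, D4, F4, E6, E7, E8`, `E` a finite subgroup of the fixed points of `m.σ` of exponent
`p` conjugate in `D.group (KK r)` to a subgroup of the torus.

* `long_fixed_or`, `long_fixed` : there is a hyperplane `F` of `E` and a fixed point `y` of `m.σ` such that `F` commutes with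
  `X_{± θ}^y`, or the frame automorphism satisfies `g₀ ^ 2 = -1`;
* `gen_of_stab` : `M₀ = K₀` if `M₀` contains a long root group and stabilises only `Y`-stable subspaces;
* `gen_of_long` : `K₀` is generated by the centralisers of the hyperplanes and the long root groups `X_{± θ}^y`;
* `gen_top` : the simple group `K₀` is generated by the centralisers of the hyperplanes of `E`.
-/

set_option autoImplicit false
set_option linter.unusedSectionVars false
set_option linter.unusedVariables false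

namespace Cfsg.Agent.H225.Gen

open CoxeterSystem Cfsg Cfsg.Lie Cfsg.Lie.ChevalleyDatum
open Cfsg.Agent.ChevalleyStructure Cfsg.Agent.ChevalleyStructure.Elts Cfsg.Agent.ChevalleyStructure.CoxeterGeom
  Cfsg.Agent.ChevalleyStructure.CoxeterGeomTypes Cfsg.Agent.ChevalleyStructure.NPerm
  Cfsg.Agent.ChevalleyStructure.XColumns
open Cfsg.Agent.Tits.Roots Cfsg.Agent.Tits.Core Cfsg.Agent.Nodes Cfsg.Agent.Nodes.Reps Cfsg.Agent.Nodes.BNOf
  Cfsg.Agent.Nodes.RGDChev Cfsg.Agent.Nodes.Bruhat Cfsg.Agent.Nodes.NormalForm Cfsg.Agent.Nodes.StabComb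
  Cfsg.Agent.Nodes.Coroot Cfsg.Agent.Nodes.SubComb
open Cfsg.Agent.KFacts.RgdField Cfsg.Agent.KFacts.RgdChevCoord
open Cfsg.Agent.BpExc Cfsg.Agent.BpExc.TorCent Cfsg.Agent.BpExc.TorChev Cfsg.Agent.BpExc.Tow
  Cfsg.Agent.BpExc.TowChev Cfsg.Agent.BpExc.Fr Cfsg.Agent.BpExc.Pair Cfsg.Agent.BpExc.LangFr Cfsg.Agent.GpExc.Field
  Cfsg.Agent.BpExc.NInst Cfsg.Agent.BpExc.NChev Cfsg.Agent.BpExc.Asm Cfsg.Agent.BpExc.CommZ
open Cfsg.Agent.H818.StrP.UTab Cfsg.Agent.H818.StrP.UAct Cfsg.Agent.H123.ExcComb Cfsg.Agent.H696.GmnToral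
open Cfsg.Agent.H469.Exc Cfsg.Agent.H469.Exc.SigFr Cfsg.Agent.H316.U3 Cfsg.Agent.H316.U6
open scoped commutatorElement Matrix

universe u v

section Comb

variable {D : ChevalleyDatum} {l : ℕ} {M : CoxeterMatrix (Fin l)} {W : Type*} [Group W] (h : HiList D)
  (hp : IsType D l M) (cs : CoxeterSystem M W) {g : (Fin l → ℤ) ≃+ (Fin l → ℤ)}
  (hg : ∀ a, IsRoot cs hp.isCartan (g a) ↔ IsRoot cs hp.isCartan a)

include hg

theorem cpr_g' {x y : Fin l → ℤ} (hy : IsRoot cs hp.isCartan y) :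
    cpr cs hp.isCartan (g x) (g y) = cpr cs hp.isCartan x y := by
  have := finite_W hp cs
  have h2 : ell cs hp.isCartan ((hg y).2 hy) (g x) = ell cs hp.isCartan hy x := by
    conv_lhs => rw [eq_sum_sr x, map_sum, map_sum]
    conv_rhs => rw [eq_sum_sr x, map_sum]
    refine Finset.sum_congr rfl fun i _ => ?_
    rw [map_zsmul, map_zsmul, map_zsmul, ell_apply, ell_apply, cpr_g hg (isRoot_sr cs hp.isCartan i) hy]
  exact h2

include h in
/-- `g² = -1` on the long roots: `g² = -1`. -/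
theorem neg_of_LL (h1 : ∀ a ∈ LL cs hp, g (g a) = -a) (x : Fin l → ℤ) : g (g x) = -x := by
  have := finite_W hp cs
  have h2 : g (g x) + x = 0 := by
    refine LL_span h hp cs fun a ha => ?_
    have har := LL_root h hp cs ha
    have h3 := cpr_g' hp cs hg (x := g x) (y := g a) ((hg a).2 har)
    rw [cpr_g' hp cs hg har, h1 a ha, cpr_neg_right cs hp.isCartan _ har] at h3
    rw [cpr_add cs _ _ _ har]
    omega
  exact eq_neg_of_add_eq_zero_left h2

end Comb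

variable {D : ChevalleyDatum} {l : ℕ} {M : CoxeterMatrix (Fin l)} (h : HiList D) (hp : IsType D l M)

section Frames

variable {k : Type u} [Field k] {W : Type v} [Group W] (cs : CoxeterSystem M W)
  [IsAlgClosed k] (hk : LocFin k) {r e : ℕ} [Fact r.Prime] [CharP k r] (he : 0 < e)

/-- `SF t` is closed under reflections -/
theorem SF_rsub (hk : LocFin k) (r : ℕ) [Fact r.Prime] [CharP k r] {ι : Type*} [Finite ι] {t : ι → ↥(D.group k)}
    (ht : ∀ i, t i ∈ TT D k) : RSub cs hp.isCartan (SF cs hp.isCartan (ch hp) t) := by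
  have := finite_W hp cs
  have hTL := TL_eq (k := k) hp hk
  have hA := chAddL (k := k) hp cs hk r
  have hA' : ChAdd cs hp.isCartan (TL (Tj hp (k := k))) (ch (K := k) hp) := by rw [hTL]; exact hA
  have ht' : ∀ i, t i ∈ TL (Tj hp (k := k)) := fun i => by rw [hTL]; exact ht i
  refine ⟨fun a ha => ha.1, fun a ha => SF_neg hA' ht' ha, fun a ha b hb => ?_⟩
  have h1 : a - cpr cs hp.isCartan a b • b = (1 : ℤ) • a + (-cpr cs hp.isCartan a b) • b := by module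
  rw [h1]
  refine SF_closed hA' ht' ha hb _ _ ?_
  rw [← h1]
  exact isRoot_refl cs hp.isCartan ha.1 hb.1

include h hk he in
/-- a connected long root in the family of a subgroup -/
theorem fixed_of_conn (hZ : Subgroup.center ↥(D.group k) = ⊥) {σ : MulAut ↥(D.group k)} (hσ : IsFrob r e σ)
    {g : (Fin l → ℤ) ≃+ (Fin l → ℤ)} (Fσ : Fr cs hp.isCartan (TT D k) (XX D l k) σ g) (hgθ : g (th D l) = th D l)
    {E : Subgroup ↥(D.group k)} [Finite ↥E]
    {z : ↥(D.group k)} (hz : ∀ a ∈ E, z * a * z⁻¹ ∈ TT D k) {z₀ k₀ : ↥(D.group k)} {w : W}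
    (a2 : ∀ i : ↥E, z₀⁻¹ * i.1 * z₀ = z * i.1 * z⁻¹) (a3 : z₀⁻¹ * σ z₀ = k₀)
    (F0 : Fr cs hp.isCartan (TT D k) (XX D l k) (MulAut.conj k₀ * σ) (g.trans (repAut cs hp.isCartan w)))
    (a6 : ∀ i : ↥E, (MulAut.conj k₀ * σ) (z * i.1 * z⁻¹) = z * i.1 * z⁻¹)
    {F : Subgroup ↥(D.group k)} (hF : F ≤ E) {β : Fin l → ℤ}
    (hβ : β ∈ SF cs hp.isCartan (ch hp) (fun i : ↥F => z * i.1 * z⁻¹)) (hβL : β ∈ LL cs hp)
    (hβg : Conn cs hp.isCartan (SF cs hp.isCartan (ch hp) (fun i : ↥F => z * i.1 * z⁻¹))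
      (rep cs hp.isCartan w (g β)) β) :
    ∃ y : ↥(D.group k), σ y = y ∧
      ∀ u, (u ∈ XX D l k (th D l) ∨ u ∈ XX D l k (-th D l)) → ∀ x ∈ F, y * u * y⁻¹ * x = x * (y * u * y⁻¹) := by
  have := finite_W hp cs
  have H := tow (k := k) hp cs hk r
  have hTL := TL_eq (k := k) hp hk
  have hXL := XL_eq (k := k) hp hk
  have C := coordsL (k := k) hp cs hk r
  have C' : Coords cs hp.isCartan (TL (Tj hp (k := k))) (nc hp k) (XL (Xj hp (k := k))) (xc hp) (ch hp) := by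
    rw [hTL, hXL]; exact C
  set g₀ : (Fin l → ℤ) ≃+ (Fin l → ℤ) := g.trans (repAut cs hp.isCartan w) with hg₀
  have hg₀a : ∀ a, g₀ a = rep cs hp.isCartan w (g a) := fun a => rfl
  have hg₀θ : g₀ (th D l) ∈ LL cs hp := ⟨w, by rw [hg₀a, hgθ]⟩
  have hg₀L : ∀ a ∈ LL cs hp, g₀ a ∈ LL cs hp := fun a ha => LL_g h hp cs F0.root hg₀θ ha
  have : Finite ↥F := Finite.of_injective _ (Subgroup.inclusion_injective hF)
  have hSF : ∀ a, g₀ a ∈ SF cs hp.isCartan (ch hp) (fun i : ↥F => z * i.1 * z⁻¹) ↔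
      a ∈ SF cs hp.isCartan (ch hp) (fun i : ↥F => z * i.1 * z⁻¹) := by
    have b4' : Fr cs hp.isCartan (TL (Tj hp (k := k))) (XL (Xj hp (k := k))) (MulAut.conj k₀ * σ) g₀ := by
      rw [hTL, hXL]; exact F0
    exact Fr_mem_SF C' b4' (fun i => by rw [hTL]; exact hz _ (hF i.2)) (fun i => a6 ⟨i.1, hF i.2⟩)
  have hRS : RSub cs hp.isCartan (SF cs hp.isCartan (ch hp) (fun i : ↥F => z * i.1 * z⁻¹)) :=
    SF_rsub hp cs hk r fun i => hz _ (hF i.2)
  -- the adjustment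
  obtain ⟨z', k', v, -, b2, b3, b4, -, b6, b7⟩ := adjustD hp cs hk he hσ (x := fun i : ↥F => i.1)
    (t := fun i : ↥F => z * i.1 * z⁻¹) (z := z₀) (fun i => a2 ⟨i.1, hF i.2⟩) (fun i => hz _ (hF i.2)) a3 F0
    (fun i => a6 ⟨i.1, hF i.2⟩)
  obtain ⟨a, ha, haL, -, hga⟩ := exists_fixed' hRS (LL_long h hp cs) F0.root hSF hg₀L
    (fun w a ha => LL_rep hp cs ha w) b6 b7 hβ hβL hβg
  obtain ⟨y, hy, hy1, hy2⟩ := conj_th h hp cs hk he hZ hσ Fσ hgθ b3 b4 haL hga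
  refine ⟨y, hy, fun u hu x hx => ?_⟩
  have h1 : z'⁻¹ * (y * u * y⁻¹) * z' ∈ MF cs hp.isCartan (XX D l k) (ch hp) (fun i : ↥F => z * i.1 * z⁻¹) := by
    rcases hu with hu | hu
    · exact RGD.le_Sup (X := XX D l k) ha (hy1 u hu)
    · exact RGD.le_Sup (X := XX D l k) (hRS.neg a ha) (hy2 u hu)
  have h2 := MF_commD hp cs hk r (fun i : ↥F => hz _ (hF i.2)) h1 ⟨x, hx⟩
  have h3 : x = z' * (z * x * z⁻¹) * z'⁻¹ := by
    have := b2 ⟨x, hx⟩
    rw [← this]; group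
  have h4 : y * u * y⁻¹ = z' * (z'⁻¹ * (y * u * y⁻¹) * z') * z'⁻¹ := by group
  rw [h4, h3]
  calc z' * (z'⁻¹ * (y * u * y⁻¹) * z') * z'⁻¹ * (z' * (z * x * z⁻¹) * z'⁻¹)
      = z' * (z'⁻¹ * (y * u * y⁻¹) * z' * (z * x * z⁻¹)) * z'⁻¹ := by group
    _ = z' * (z * x * z⁻¹ * (z'⁻¹ * (y * u * y⁻¹) * z')) * z'⁻¹ := by rw [h2]
    _ = _ := by group

include h hk he in
/-- **A fixed long root, or `g₀ ² = -1`.** -/
theorem long_fixed_or (hZ : Subgroup.center ↥(D.group k) = ⊥) {σ : MulAut ↥(D.group k)} (hσ : IsFrob r e σ)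
    {g : (Fin l → ℤ) ≃+ (Fin l → ℤ)} (Fσ : Fr cs hp.isCartan (TT D k) (XX D l k) σ g) (hgθ : g (th D l) = th D l)
    {p : ℕ} (hpp : p.Prime) {E : Subgroup ↥(D.group k)} [Finite ↥E] (hEp : ∀ a ∈ E, a ^ p = 1)
    (hyp : ∃ F ≤ E, (F.subgroupOf E).index = p) (hEσ : ∀ a ∈ E, σ a = a)
    {z : ↥(D.group k)} (hz : ∀ a ∈ E, z * a * z⁻¹ ∈ TT D k) :
    (∃ F ≤ E, (F.subgroupOf E).index = p ∧ ∃ y : ↥(D.group k), σ y = y ∧
      ∀ u, (u ∈ XX D l k (th D l) ∨ u ∈ XX D l k (-th D l)) → ∀ x ∈ F, y * u * y⁻¹ * x = x * (y * u * y⁻¹)) ∨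
    ∃ (z₀ k₀ : ↥(D.group k)) (w : W), (∀ i : ↥E, z₀⁻¹ * i.1 * z₀ = z * i.1 * z⁻¹) ∧ z₀⁻¹ * σ z₀ = k₀ ∧
      Fr cs hp.isCartan (TT D k) (XX D l k) (MulAut.conj k₀ * σ) (g.trans (repAut cs hp.isCartan w)) ∧
      (∀ i : ↥E, (MulAut.conj k₀ * σ) (z * i.1 * z⁻¹) = z * i.1 * z⁻¹) ∧
      (∀ β ∈ LL cs hp, cpr cs hp.isCartan (rep cs hp.isCartan w (g β)) β = 0) ∧
      ∀ x, rep cs hp.isCartan w (g (rep cs hp.isCartan w (g x))) = -x := by
  have := finite_W hp cs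
  have H := tow (k := k) hp cs hk r
  have hTL := TL_eq (k := k) hp hk
  have hXL := XL_eq (k := k) hp hk
  have C := coordsL (k := k) hp cs hk r
  have C' : Coords cs hp.isCartan (TL (Tj hp (k := k))) (nc hp k) (XL (Xj hp (k := k))) (xc hp) (ch hp) := by
    rw [hTL, hXL]; exact C
  set! t : ↥E → ↥(D.group k) := fun i => z * i.1 * z⁻¹ with ht
  have htT : ∀ i, t i ∈ TT D k := fun i => hz _ i.2
  obtain ⟨z₀, k₀, w, -, a2, a3, F0, a6⟩ := frameD hp cs hk he hσ Fσ (x := fun i : ↥E => i.1)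
    (fun i => hEσ _ i.2) (z := z⁻¹) (t := t) (fun i => by rw [ht]; group) htT
  have hg₀θ : (g.trans (repAut cs hp.isCartan w)) (th D l) ∈ LL cs hp := ⟨w, by
    show rep cs hp.isCartan w (g (th D l)) = _
    rw [hgθ]⟩
  by_cases hc : ∃ β ∈ LL cs hp, cpr cs hp.isCartan (rep cs hp.isCartan w (g β)) β ≠ 0
  · left
    obtain ⟨β, hβ, h1⟩ := hc
    have hβr := LL_root h hp cs hβ
    obtain ⟨F, hF, hFi, h2⟩ := exists_hyp hp cs hk r hpp hEp hyp hz hβr
    have h3 : β ∈ SF cs hp.isCartan (ch hp) (fun i : ↥F => z * i.1 * z⁻¹) := ⟨hβr, fun i => h2 _ i.2⟩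
    have : Finite ↥F := Finite.of_injective _ (Subgroup.inclusion_injective hF)
    have hSF : rep cs hp.isCartan w (g β) ∈ SF cs hp.isCartan (ch hp) (fun i : ↥F => z * i.1 * z⁻¹) := by
      have b4' : Fr cs hp.isCartan (TL (Tj hp (k := k))) (XL (Xj hp (k := k))) (MulAut.conj k₀ * σ)
          (g.trans (repAut cs hp.isCartan w)) := by
        rw [hTL, hXL]; exact F0
      exact (Fr_mem_SF (t := fun i : ↥F => z * i.1 * z⁻¹) C' b4' (fun i => by rw [hTL]; exact hz _ (hF i.2))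
        (fun i => a6 ⟨i.1, hF i.2⟩) β).2 h3
    exact ⟨F, hF, hFi, fixed_of_conn h hp cs hk he hZ hσ Fσ hgθ hz a2 a3 F0 a6 hF h3 hβ
      (conn_of_ne (SF_rsub hp cs hk r fun i => hz _ (hF i.2)) hSF h1)⟩
  · right
    push Not at hc
    refine ⟨z₀, k₀, w, a2, a3, F0, a6, hc, fun x => ?_⟩
    exact neg_of_LL h hp cs F0.root (fun a ha => sq_of_orth h hp cs F0.root hg₀θ hc ha) x

include h hk he in
/-- **A fixed long root.** -/
theorem long_fixed (hZ : Subgroup.center ↥(D.group k) = ⊥) {σ : MulAut ↥(D.group k)} (hσ : IsFrob r e σ)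
    {g : (Fin l → ℤ) ≃+ (Fin l → ℤ)} (Fσ : Fr cs hp.isCartan (TT D k) (XX D l k) σ g) (hgθ : g (th D l) = th D l)
    {p : ℕ} (hpp : p.Prime) {E : Subgroup ↥(D.group k)} [Finite ↥E] (hEp : ∀ a ∈ E, a ^ p = 1)
    (hyp : ∃ F ≤ E, (F.subgroupOf E).index = p) (hEσ : ∀ a ∈ E, σ a = a)
    {z : ↥(D.group k)} (hz : ∀ a ∈ E, z * a * z⁻¹ ∈ TT D k)
    (hNS : ¬ p ∣ (r ^ e) ^ 2 + 1 ∨
      ∀ w : W, ∃ x, rep cs hp.isCartan w (g (rep cs hp.isCartan w (g x))) ≠ -x) :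
    ∃ F ≤ E, (F.subgroupOf E).index = p ∧ ∃ y : ↥(D.group k), σ y = y ∧
      ∀ u, (u ∈ XX D l k (th D l) ∨ u ∈ XX D l k (-th D l)) → ∀ x ∈ F, y * u * y⁻¹ * x = x * (y * u * y⁻¹) := by
  have := finite_W hp cs
  rcases long_fixed_or h hp cs hk he hZ hσ Fσ hgθ hpp hEp hyp hEσ hz with h0 | ⟨z₀, k₀, w, a2, a3, F0, a6, -, hsq⟩
  · exact h0
  rcases hNS with hNS | hNS
  · have hg₀θ : rep cs hp.isCartan w (g (th D l)) ∈ LL cs hp := ⟨w, by rw [hgθ]⟩
    -- all long roots are trivial on `E`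
    have h1 : ∀ a ∈ LL cs hp, ∀ x ∈ E, ch hp a (z * x * z⁻¹) = 1 := by
      intro a ha x hx
      have har := LL_root h hp cs ha
      have hτ := hσ.conj_mul k₀
      have h2 := fr_ch hp cs hk hτ F0 har (hz x hx)
      have h3 := fr_ch hp cs hk hτ F0 ((F0.root a).2 har) (hz x hx)
      have h4 : (MulAut.conj k₀ * σ) (z * x * z⁻¹) = z * x * z⁻¹ := a6 ⟨x, hx⟩
      have h40 : (g.trans (repAut cs hp.isCartan w)) ((g.trans (repAut cs hp.isCartan w)) a) = -a := hsq a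
      rw [h4] at h2 h3
      rw [h2, h40, ch_neg hp cs hk r har (hz x hx)] at h3
      have h5 := ch_ne_zero hp cs hk r har (hz x hx)
      have h6 : ch hp a (z * x * z⁻¹) ^ ((r ^ e) ^ 2 + 1) = 1 := by
        rw [pow_succ, sq, pow_mul, ← h3, inv_mul_cancel₀ h5]
      have h7 : ch hp a (z * x * z⁻¹) ^ p = 1 := by
        rw [← H696.GmnToral.ch_pow hp cs hk r har (hz x hx), conj_pow, hEp x hx, mul_one, mul_inv_cancel,
          ch_one hp cs hk r har]
      have h8 : Nat.Coprime p ((r ^ e) ^ 2 + 1) := (Nat.Prime.coprime_iff_not_dvd hpp).2 hNS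
      have h9 := pow_gcd_eq_one.2 ⟨h7, h6⟩
      rwa [h8.gcd_eq_one, pow_one] at h9
    obtain ⟨F, hF, hFi⟩ := hyp
    have h2 : ∀ a ∈ LL cs hp, a ∈ SF cs hp.isCartan (ch hp) (fun i : ↥F => z * i.1 * z⁻¹) := fun a ha =>
      ⟨LL_root h hp cs ha, fun i => h1 a ha _ (hF i.2)⟩
    obtain ⟨c, hc, h3, h4⟩ := LL_conn h hp cs hg₀θ (th_mem hp cs)
    exact ⟨F, hF, hFi, fixed_of_conn h hp cs hk he hZ hσ Fσ hgθ hz a2 a3 F0 a6 hF (h2 _ (th_mem hp cs))
      (th_mem hp cs) ⟨c, h2 c hc, h3, h4⟩⟩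
  · exfalso
    obtain ⟨x, hx⟩ := hNS w
    exact hx (hsq x)

end Frames

section Main

variable {hp} {r q : ℕ} [hr : Fact r.Prime] {K₀ : Type v} [Group K₀]

include h in
/-- the center of `D.group (KK r)` -/
theorem center_KK (r : ℕ) [Fact r.Prime] : Subgroup.center ↥(D.group (KK r)) = ⊥ := by
  classical
  have key : IsSimpleGroup ↥(D.group (KK r)) ∧ ¬ IsMulCommutative ↥(D.group (KK r)) := by
    by_cases hD : D = chevG2
    · subst hD
      obtain ⟨a, ha⟩ := Infinite.exists_notMem_finset ({0, 1} : Finset (KK r))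
      simp only [Finset.mem_insert, Finset.mem_singleton, not_or] at ha
      exact S1055.result ⟨a, ha⟩
    · refine S1054.result D ?_
      have h1 := h
      simp only [HiList, List.mem_cons, List.not_mem_nil, or_false] at h1 ⊢
      tauto
  obtain ⟨h1, h2⟩ := key
  rcases (inferInstance : (Subgroup.center ↥(D.group (KK r))).Normal).eq_bot_or_eq_top with h3 | h3
  · exact h3
  · exfalso
    apply h2
    refine ⟨⟨fun a b => ?_⟩⟩
    have : b ∈ Subgroup.center ↥(D.group (KK r)) := by rw [h3]; trivial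
    exact Subgroup.mem_center_iff.1 this a

include h in
/-- **Generation**: `M₀` contains a long root group `X_{± θ}^y ∩ Y^σ`, and the subspaces stable under `M₀` are stable under
`Y`: then `M₀ = K₀`. -/
theorem gen_of_stab (m : MData hp r q K₀) [Finite K₀] [IsSimpleGroup K₀] (hq : 3 ≤ q)
    {M₀ : Subgroup K₀} {y : ↥(D.group (KK r))} (hy : m.σ y = y)
    (hlong : ∀ u, m.σ u = u → (u ∈ XX D l (KK r) (th D l) ∨ u ∈ XX D l (KK r) (-th D l)) →
      y * u * y⁻¹ ∈ M₀.map m.ι)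
    (hstab : ∀ L : Submodule (KK r) (D.Idx → KK r), (∀ a ∈ M₀, StabU L (m.ι a)) → ∀ u, StabU L u) : M₀ = ⊤ := by
  have hk := locFin r
  have hZ := center_KK h r
  have hD : 0 < D.nroots := ChevalleyStructure.RootVec.nroots_pos h.checked
  have hq1 : 1 < q := by omega
  have hyi : m.σ y⁻¹ = y⁻¹ := by rw [map_inv, hy]
  -- the subgroups
  set HH : Subgroup ↥(D.group (KK r)) := M₀.map m.ι with hHH
  set! H' : Subgroup ↥(D.group (KK r)) := HH.map (MulAut.conj y⁻¹).toMonoidHom with hH'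
  have hmem : ∀ u, u ∈ H' ↔ y * u * y⁻¹ ∈ HH := by
    intro u
    constructor
    · rintro ⟨v, hv, rfl⟩
      have : y * ((MulAut.conj y⁻¹).toMonoidHom v) * y⁻¹ = v := by
        show y * (y⁻¹ * v * y⁻¹⁻¹) * y⁻¹ = v
        group
      rw [this]; exact hv
    · intro hu
      refine ⟨_, hu, ?_⟩
      show y⁻¹ * (y * u * y⁻¹) * y⁻¹⁻¹ = u
      group
  have hσ' : ∀ u ∈ H', m.σ u = u := by
    intro u hu
    obtain ⟨a, -, ha⟩ := (hmem u).1 hu
    have h1 := m.fix a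
    rw [ha, map_mul, map_mul, hy, hyi] at h1
    exact mul_left_cancel (mul_right_cancel h1)
  have hθ : IsRoot M.toCoxeterSystem hp.isCartan (th D l) := th_root h hp M.toCoxeterSystem
  have hA1 : ∀ u, m.σ u = u → (u ∈ XX D l (KK r) (th D l) ∨ u ∈ XX D l (KK r) (-th D l)) → u ∈ H' := by
    intro u hu hux
    rw [hmem]
    exact hlong u hu hux
  -- the submodule
  set! L : Submodule (KK r) (D.Idx → KK r) := Submodule.span (KK r)
      {v | ∃ h ∈ H', v = ((h : GL D.Idx (KK r)) : Matrix D.Idx D.Idx (KK r)) *ᵥ ev D (KK r) (D.nroots - 1)} with hLdef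
  have hLH : ∀ h ∈ H', StabU L h := by
    intro h hh v hv
    have h1 : L ≤ L.comap (((h : GL D.Idx (KK r)) : Matrix D.Idx D.Idx (KK r)).mulVecLin) := by
      refine Submodule.span_le.2 ?_
      rintro _ ⟨h', hh', rfl⟩
      refine Submodule.subset_span ⟨h * h', mul_mem hh hh', ?_⟩
      rw [Matrix.mulVecLin_apply, Matrix.mulVec_mulVec]
      rfl
    exact h1 hv
  have hLtop : ev D (KK r) (D.nroots - 1) ∈ L := Submodule.subset_span ⟨1, one_mem _, by
    rw [Subgroup.coe_one, Units.val_one, Matrix.one_mulVec]⟩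
  have hall : ∀ u : ↥(D.group (KK r)), StabU L u := by
    intro u
    have h1 := hstab (tr L y⁻¹) (fun a ha => by
      rw [stabU_tr, inv_inv]
      refine hLH _ ((hmem _).2 ?_)
      have e1 : y * (y⁻¹ * m.ι a * y) * y⁻¹ = m.ι a := by group
      rw [e1]
      exact ⟨a, ha, rfl⟩) (y * u * y⁻¹)
    rw [stabU_tr, inv_inv] at h1
    have e1 : y⁻¹ * (y * u * y⁻¹) * y = u := by group
    rwa [e1] at h1
  -- Theorem Z
  obtain ⟨i₀, hi, hi1, hZt⟩ := H818.StrP.UThm.thmZ m h hq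
  obtain ⟨h1, h2⟩ := hZt H' hσ' (fun u hu hux => hA1 u hu (Or.inl hux)) (fun u hu hux => hA1 u hu (Or.inr hux))
    (fun s hs => by
      have h3 := H549.Exc.all_of_top hp.inList (L := L) (fun g v hv => hall g v hv) hLtop ⟨s, hs⟩
      rw [ChevalleyStructure.XColumns.ev_eq_single hs]
      exact h3)
  -- the conclusion
  have hN : NQ m i₀ ≤ H'.comap m.ι := by
    refine (Subgroup.closure_le _).2 ?_
    rintro a (ha | ha)
    · exact h1 _ (m.fix a) ha
    · exact h2 _ (m.fix a) ha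
  have hn := NQ_normal m hi
  have htop : H'.comap m.ι = ⊤ := by
    rcases hn.eq_bot_or_eq_top with h3 | h3
    · exfalso
      obtain ⟨a, ha1, ha⟩ := exists_top m hD hq1
      refine ha1 (Subgroup.mem_bot.1 ?_)
      rw [← h3]
      refine Subgroup.subset_closure (Or.inl ?_)
      exact RGD.le_Sup (X := XX D l (KK r)) (S := {a | IsRoot M.toCoxeterSystem hp.isCartan a ∧ 1 ≤ a i₀})
        ⟨hθ, hi1⟩ ha
    · exact top_le_iff.1 (h3 ▸ hN)
  have h3 : Nat.card K₀ ≤ Nat.card ↥M₀ := by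
    let f : K₀ → ↥M₀ := fun a => ⟨((hmem _).1 (show m.ι a ∈ H' from by
      have : a ∈ H'.comap m.ι := by rw [htop]; exact Subgroup.mem_top a
      exact this)).choose, ((hmem _).1 (show m.ι a ∈ H' from by
      have : a ∈ H'.comap m.ι := by rw [htop]; exact Subgroup.mem_top a
      exact this)).choose_spec.1⟩
    refine Nat.card_le_card_of_injective f ?_
    intro a b hab
    have ha := ((hmem _).1 (show m.ι a ∈ H' from by
      have : a ∈ H'.comap m.ι := by rw [htop]; exact Subgroup.mem_top a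
      exact this)).choose_spec.2
    have hb := ((hmem _).1 (show m.ι b ∈ H' from by
      have : b ∈ H'.comap m.ι := by rw [htop]; exact Subgroup.mem_top b
      exact this)).choose_spec.2
    have hab' := congrArg (fun x : ↥M₀ => m.ι x.1) hab
    simp only [f] at hab'
    rw [ha, hb] at hab'
    exact m.inj (mul_left_cancel (mul_right_cancel hab'))
  exact Subgroup.eq_top_of_le_card _ h3

include h in
/-- **Generation by the centralisers of the hyperplanes** (only the `r`-elements), with a long root group given. -/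
theorem gen_of_long (m : MData hp r q K₀) [Finite K₀] [IsSimpleGroup K₀] (hq : 3 ≤ q) (hG2 : D = chevG2 → 4 ≤ q)
    {p : ℕ} (hpp : p.Prime) {E : Subgroup ↥(D.group (KK r))} [Finite ↥E] (hEp : ∀ a ∈ E, a ^ p = 1)
    (hyp : ∃ F ≤ E, (F.subgroupOf E).index = p) (hEσ : ∀ a ∈ E, m.σ a = a)
    {z : ↥(D.group (KK r))} (hz : ∀ a ∈ E, z * a * z⁻¹ ∈ TT D (KK r))
    {M₀ : Subgroup K₀} (hM : ∀ F ≤ E, (F.subgroupOf E).index = p → ∀ a : K₀, (∃ j, a ^ r ^ j = 1) →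
      (∀ x ∈ F, m.ι a * x = x * m.ι a) → a ∈ M₀) {y : ↥(D.group (KK r))} (hy : m.σ y = y)
    (hlong : ∀ u, m.σ u = u → (u ∈ XX D l (KK r) (th D l) ∨ u ∈ XX D l (KK r) (-th D l)) →
      y * u * y⁻¹ ∈ M₀.map m.ι) : M₀ = ⊤ := by
  refine gen_of_stab h m hq hy hlong fun L hL u => ?_
  refine stabU_topF hp M.toCoxeterSystem (locFin r) m.he (density m hq hG2) m.frob m.fr hpp hEp hyp hEσ hz
    (fun F hF hFi v hv hvx hvr => ?_) u
  obtain ⟨a, rfl⟩ := m.exists_eq hv hvr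
  obtain ⟨j, hj⟩ := hvr
  exact hL a (hM F hF hFi a ⟨j, m.inj (by rw [map_pow, hj, map_one])⟩ hvx)

/-- `gen_of_long` for a long root group commuting with a hyperplane -/
theorem gen_of_fixed (h : HiList D) (m : MData hp r q K₀) [Finite K₀] [IsSimpleGroup K₀] (hq : 3 ≤ q)
    (hG2 : D = chevG2 → 4 ≤ q)
    {p : ℕ} (hpp : p.Prime) {E : Subgroup ↥(D.group (KK r))} [Finite ↥E] (hEp : ∀ a ∈ E, a ^ p = 1)
    (hyp : ∃ F ≤ E, (F.subgroupOf E).index = p) (hEσ : ∀ a ∈ E, m.σ a = a)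
    {z : ↥(D.group (KK r))} (hz : ∀ a ∈ E, z * a * z⁻¹ ∈ TT D (KK r))
    {M₀ : Subgroup K₀} (hM : ∀ F ≤ E, (F.subgroupOf E).index = p → ∀ a : K₀, (∃ j, a ^ r ^ j = 1) →
      (∀ x ∈ F, m.ι a * x = x * m.ι a) → a ∈ M₀) (hfix : ∃ F ≤ E, (F.subgroupOf E).index = p ∧ ∃ y : ↥(D.group (KK r)), m.σ y = y ∧
      ∀ u, (u ∈ XX D l (KK r) (th D l) ∨ u ∈ XX D l (KK r) (-th D l)) → ∀ x ∈ F,
        y * u * y⁻¹ * x = x * (y * u * y⁻¹)) : M₀ = ⊤ := by
  obtain ⟨F, hF, hFi, y, hy, hcomm⟩ := hfix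
  refine gen_of_long h m hq hG2 hpp hEp hyp hEσ hz hM hy fun u hu hux => ?_
  have hyi : m.σ y⁻¹ = y⁻¹ := by rw [map_inv, hy]
  have hθ : IsRoot M.toCoxeterSystem hp.isCartan (th D l) := th_root h hp M.toCoxeterSystem
  obtain ⟨j, hj⟩ : ∃ j, u ^ r ^ j = 1 := by
    rcases hux with h1 | h1
    · exact pow_of_rootD hp M.toCoxeterSystem (locFin r) r hθ h1
    · exact pow_of_rootD hp M.toCoxeterSystem (locFin r) r hθ.neg h1
  have h1 : m.σ (y * u * y⁻¹) = y * u * y⁻¹ := by rw [map_mul, map_mul, hy, hyi, hu]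
  have h2 : ∃ j, (y * u * y⁻¹) ^ r ^ j = 1 := ⟨j, by rw [conj_pow, hj, mul_one, mul_inv_cancel]⟩
  obtain ⟨a, ha⟩ := m.exists_eq h1 h2
  obtain ⟨j', hj'⟩ := h2
  exact ⟨a, hM F hF hFi a ⟨j', m.inj (by rw [map_pow, ha, hj', map_one])⟩ (by rw [ha]; exact hcomm u hux), ha⟩

/-- **Generation by the `r`-elements of the centralisers of the hyperplanes.** -/
theorem gen_top_r (h : HiList D) (m : MData hp r q K₀) [Finite K₀] [IsSimpleGroup K₀] (hq : 3 ≤ q)
    (hG2 : D = chevG2 → 4 ≤ q)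
    {p : ℕ} (hpp : p.Prime) {E : Subgroup ↥(D.group (KK r))} [Finite ↥E] (hEp : ∀ a ∈ E, a ^ p = 1)
    (hyp : ∃ F ≤ E, (F.subgroupOf E).index = p) (hEσ : ∀ a ∈ E, m.σ a = a)
    {z : ↥(D.group (KK r))} (hz : ∀ a ∈ E, z * a * z⁻¹ ∈ TT D (KK r))
    (hNS : ¬ p ∣ q ^ 2 + 1 ∨ ∀ w, ∃ x,
      rep M.toCoxeterSystem hp.isCartan w (m.g (rep M.toCoxeterSystem hp.isCartan w (m.g x))) ≠ -x)
    {M₀ : Subgroup K₀} (hM : ∀ F ≤ E, (F.subgroupOf E).index = p → ∀ a : K₀, (∃ j, a ^ r ^ j = 1) →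
      (∀ x ∈ F, m.ι a * x = x * m.ι a) → a ∈ M₀) : M₀ = ⊤ :=
  gen_of_fixed h m hq hG2 hpp hEp hyp hEσ hz hM (long_fixed h hp M.toCoxeterSystem (locFin r) m.he (center_KK h r)
    m.frob m.fr m.top hpp hEp hyp hEσ hz (by rw [m.hq]; exact hNS))

/-- **Generation by the centralisers of the hyperplanes.** -/
theorem gen_top (h : HiList D) (m : MData hp r q K₀) [Finite K₀] [IsSimpleGroup K₀] (hq : 3 ≤ q)
    (hG2 : D = chevG2 → 4 ≤ q)
    {p : ℕ} (hpp : p.Prime) {E : Subgroup ↥(D.group (KK r))} [Finite ↥E] (hEp : ∀ a ∈ E, a ^ p = 1)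
    (hyp : ∃ F ≤ E, (F.subgroupOf E).index = p) (hEσ : ∀ a ∈ E, m.σ a = a)
    {z : ↥(D.group (KK r))} (hz : ∀ a ∈ E, z * a * z⁻¹ ∈ TT D (KK r))
    (hNS : ¬ p ∣ q ^ 2 + 1 ∨ ∀ w, ∃ x,
      rep M.toCoxeterSystem hp.isCartan w (m.g (rep M.toCoxeterSystem hp.isCartan w (m.g x))) ≠ -x)
    {M₀ : Subgroup K₀} (hM : ∀ F ≤ E, (F.subgroupOf E).index = p → ∀ a : K₀, (∀ x ∈ F, m.ι a * x = x * m.ι a) →
      a ∈ M₀) : M₀ = ⊤ :=
  gen_top_r h m hq hG2 hpp hEp hyp hEσ hz hNS fun F hF hFi a _ ha => hM F hF hFi a ha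

end Main

end Cfsg.Agent.H225.Gen

private theorem dce_5e586570d44f : _root_.True := by
  try have : _root_.True := by simp only [_root_.Cfsg.Agent.H225.Gen.LL.congr_simp]
  exact _root_.True.intro
end

-- part: H225/Gen/NS
section
prune_inst 0x10200504502200000018001000001c2290000002004b880011c00506000e940020400e0140200c12100008000000002000000010401000000a000000000100208003500612010104460001801007180c00000000000000000000000000041000000000000
set_option linter.all false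
open scoped Cfsg.Agent.FastGrp

-- part: H225/Gen/Tors3
section
/-!
# Elements of order 3 of the Weyl groups of type `G₂`, `D₄` (S2187, helper225)

`tors_of_rfl` : the certificate `Tors` from one product of reflections; `tors_G2`, `tors_D4` : `Tors` for `3`.
-/

set_option autoImplicit false
set_option linter.unusedSectionVars false

namespace Cfsg.Agent.H225.Gen

open CoxeterSystem Cfsg Cfsg.Lie Cfsg.Lie.ChevalleyDatum
open Cfsg.Agent.ChevalleyStructure Cfsg.Agent.ChevalleyStructure.CoxeterGeom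
  Cfsg.Agent.ChevalleyStructure.CoxeterGeomTypes Cfsg.Agent.ChevalleyStructure.NPerm
open Cfsg.Agent.Tits.Roots Cfsg.Agent.Tits.Core Cfsg.Agent.Nodes Cfsg.Agent.Nodes.Reps
  Cfsg.Agent.Nodes.RGDChev Cfsg.Agent.Nodes.SubComb
open Cfsg.Agent.H129.WData Cfsg.Agent.H129.TorusChar Cfsg.Agent.H795.SetTor Cfsg.Agent.H795.TorsData
  Cfsg.Agent.H795.RowsA

/-- The certificate for one product of reflections of order `l`, `l ∥ |W|`. -/
theorem tors_of_rfl {I W : Type*} [Fintype I] [DecidableEq I] [Group W] {M : CoxeterMatrix I}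
    {cs : CoxeterSystem M W} {A : I → I → ℤ} {h : IsCartan M A} [Finite W] {l : ℕ} (hl : l.Prime)
    (hW : ¬ l ^ 2 ∣ Nat.card W) (L : List (W × I)) (w₀ : W)
    (hw₀ : w₀ = (L.map fun a => rfl' cs a.1 a.2).prod) (ho : orderOf w₀ = l)
    (hx : ∀ a ∈ L, ∃ x : I → ℤ, rep cs h w₀ x - x = rep cs h a.1 (sr a.2)) : Tors cs h l := by
  classical
  intro w hw
  have hfl : Fact l.Prime := ⟨hl⟩
  have hdvd : l ∣ Nat.card W := ho ▸ orderOf_dvd_natCard w₀
  -- both cyclic groups are Sylow subgroups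
  have hsyl : ∀ v : W, orderOf v = l → ∃ P : Sylow l W, (P : Subgroup W) = Subgroup.zpowers v := by
    intro v hv
    have h1 : IsPGroup l ↥(Subgroup.zpowers v) :=
      IsPGroup.of_card (n := 1) (by rw [Nat.card_zpowers, hv, pow_one])
    have h2 : ¬ l ∣ (Subgroup.zpowers v).index := by
      intro hd
      apply hW
      rw [← Subgroup.card_mul_index (Subgroup.zpowers v), Nat.card_zpowers, hv, pow_two]
      exact Nat.mul_dvd_mul_left l hd
    exact ⟨h1.toSylow h2, rfl⟩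
  obtain ⟨P, hP⟩ := hsyl w hw
  obtain ⟨P₀, hP₀⟩ := hsyl w₀ ho
  obtain ⟨g, hg⟩ := MulAction.exists_smul_eq W P₀ P
  -- `g w₀ g⁻¹` is a power of `w`
  have h1 : g * w₀ * g⁻¹ ∈ Subgroup.zpowers w := by
    rw [← hP, ← hg, Sylow.coe_subgroup_smul, Subgroup.mem_pointwise_smul_iff_inv_smul_mem, ← map_inv, MulAut.smul_def,
      MulAut.conj_apply, inv_inv, hP₀]
    have e : g⁻¹ * (g * w₀ * g⁻¹) * g = w₀ := by group
    rw [e]
    exact Subgroup.mem_zpowers w₀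
  have hfin : IsOfFinOrder w := isOfFinOrder_of_finite w
  obtain ⟨i, hi⟩ := hfin.mem_powers_iff_mem_zpowers.2 h1
  have hi' : w ^ i = g * w₀ * g⁻¹ := hi
  -- `w` is a power of `g w₀ g⁻¹`
  have hord : orderOf (g * w₀ * g⁻¹) = l := by
    rw [← MulAut.conj_apply]
    rw [← ho]
    exact orderOf_injective (MulAut.conj g).toMonoidHom (MulAut.conj g).injective w₀
  have h2 : w ∈ Subgroup.zpowers (g * w₀ * g⁻¹) := by
    have h3 : Subgroup.zpowers (g * w₀ * g⁻¹) ≤ Subgroup.zpowers w := Subgroup.zpowers_le.2 h1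
    have h4 : Subgroup.zpowers (g * w₀ * g⁻¹) = Subgroup.zpowers w := by
      refine Subgroup.eq_of_le_of_card_ge h3 ?_
      rw [Nat.card_zpowers, Nat.card_zpowers, hord, hw]
    rw [h4]
    exact Subgroup.mem_zpowers w
  -- `(w ^ i - 1) y = (w - 1) (∑ ...)`
  have hsum : ∀ (m : ℕ) (y : I → ℤ), ∃ x, rep cs h w x - x = rep cs h (w ^ m) y - y := by
    intro m y
    induction m with
    | zero => exact ⟨0, by rw [map_zero, sub_zero, pow_zero, map_one, Module.End.one_apply, sub_self]⟩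
    | succ m ih =>
      obtain ⟨x, hx⟩ := ih
      refine ⟨x + rep cs h (w ^ m) y, ?_⟩
      rw [map_add, pow_succ', rep_mul_apply]
      have : rep cs h w x - x = rep cs h (w ^ m) y - y := hx
      have e : rep cs h w x = rep cs h (w ^ m) y - y + x := by rw [← this]; abel
      rw [e]
      abel
  have h5 : g * w₀ * g⁻¹ ∈ Subgroup.closure {v | ∃ (u : W) (i : I) (x : I → ℤ), v = rfl' cs u i ∧
      rep cs h w x - x = rep cs h u (sr i)} := by
    have h6 : ∀ a ∈ L, g * rfl' cs a.1 a.2 * g⁻¹ ∈ Subgroup.closure {v | ∃ (u : W) (i : I) (x : I → ℤ), v = rfl' cs u i ∧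
        rep cs h w x - x = rep cs h u (sr i)} := by
      intro a ha
      apply Subgroup.subset_closure
      obtain ⟨x, hx⟩ := hx a ha
      obtain ⟨y, hy⟩ := hsum i (rep cs h g x)
      refine ⟨g * a.1, a.2, y, ?_, ?_⟩
      · unfold rfl'
        group
      · rw [hy, hi', rep_mul_apply, rep_mul_apply]
        have e : rep cs h g⁻¹ (rep cs h g x) = x := by
          rw [← rep_mul_apply, inv_mul_cancel, map_one, Module.End.one_apply]
        rw [e, rep_mul_apply, ← hx, map_sub]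
    have h7 : ∀ L' : List (W × I), (∀ a ∈ L', a ∈ L) → g * (L'.map fun a => rfl' cs a.1 a.2).prod * g⁻¹ ∈
        Subgroup.closure {v | ∃ (u : W) (i : I) (x : I → ℤ), v = rfl' cs u i ∧
        rep cs h w x - x = rep cs h u (sr i)} := by
      intro L'
      induction L' with
      | nil =>
        intro _
        rw [List.map_nil, List.prod_nil, mul_one, mul_inv_cancel]
        exact one_mem _
      | cons a L' ih =>
        intro hL'
        rw [List.map_cons, List.prod_cons]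
        have e : g * (rfl' cs a.1 a.2 * (L'.map fun a => rfl' cs a.1 a.2).prod) * g⁻¹ =
            (g * rfl' cs a.1 a.2 * g⁻¹) * (g * (L'.map fun a => rfl' cs a.1 a.2).prod * g⁻¹) := by
          group
        rw [e]
        exact mul_mem (h6 a (hL' a (List.mem_cons_self))) (ih fun j' hj' => hL' j' (List.mem_cons_of_mem _ hj'))
    rw [hw₀]
    exact h7 L fun _ hj => hj
  exact (Subgroup.zpowers_le.2 h5) h2

/-- the order of a product of simple reflections -/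
theorem orderOf_of_data {D : ChevalleyDatum} {l : ℕ} {M : CoxeterMatrix (Fin l)} (hp : IsType D l M)
    {W : Type*} [Group W] (cs : CoxeterSystem M W) [Finite W] {A : Mat l} (hA : ∀ i j, A i j = cartanOf D l i j)
    {C : List (Fin l × Mat l)}
    (hC : ChainOK A C) {q : ℕ} (hq : q.Prime) {P : List (Mat l)} (hP : PowOK (hd C) P) (hlen : P.length = q)
    (h1 : ∀ j m, hdm P j m = if j = m then 1 else 0) (hne : ∃ j m, hd C j m ≠ if j = m then 1 else 0) :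
    orderOf (cs.wordProd (C.map Prod.fst)) = q := by
  have hrep := chain_rep hp cs hA hC
  have hid : ∀ j m : Fin l, (sr j : Fin l → ℤ) m = if j = m then 1 else 0 := by
    intro j m
    by_cases hm : j = m
    · subst hm; rw [if_pos rfl, sr_self]
    · rw [if_neg hm, sr_ne (Ne.symm hm)]
  have hfq : Fact q.Prime := ⟨hq⟩
  refine orderOf_eq_prime ?_ ?_
  · apply rep_injective cs hp.isCartan
    rw [map_one]
    apply LinearMap.ext
    intro y
    funext m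
    rw [← hlen, rep_of_sr hp cs (Th := hdm P) (pow_rep hp cs hrep hP) y m, Module.End.one_apply]
    simp only [h1]
    simp
  · intro h2
    obtain ⟨j, m, hjm⟩ := hne
    apply hjm
    rw [← hrep j, h2, map_one, Module.End.one_apply, hid]

namespace G2q3

def Am : Mat 2 := ![![2, -3], ![-1, 2]]

def chain : List (Fin 2 × Mat 2) := [
  (1, ![![-2, -1], ![3, 1]]), (0, ![![-2, -1], ![3, 2]]), (1, ![![-1, -1], ![3, 2]]), (0, ![![-1, 0], ![3, 1]])]

def pw : List (Mat 2) := [![![1, 0], ![0, 1]], ![![1, 1], ![-3, -2]], ![![-2, -1], ![3, 1]]]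

theorem hA : ∀ i j, Am i j = cartanOf chevG2 2 i j := by decide +kernel
theorem chainOK : ChainOK Am chain := by decide +kernel
theorem powOK : PowOK (hd chain) pw := by decide +kernel
theorem oneOK : ∀ j m, hdm pw j m = if j = m then 1 else 0 := by decide +kernel
theorem neOK : ∃ j m, hd chain j m ≠ if j = m then 1 else 0 := by decide +kernel
theorem xOK : ∀ m, ∑ n, (![-1, -1] : Fin 2 → ℤ) n * hd chain n m - (![-1, -1] : Fin 2 → ℤ) m = (![0, 1] : Fin 2 → ℤ) m := by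
  decide +kernel
theorem yOK : ∀ m, ∑ n, (![-1, 0] : Fin 2 → ℤ) n * hd chain n m - (![-1, 0] : Fin 2 → ℤ) m = (![3, 1] : Fin 2 → ℤ) m := by
  decide +kernel
theorem sOK : ChainOK Am [((0 : Fin 2), ![![-1, 0], ![3, 1]])] := by decide +kernel

end G2q3

theorem tors_G2 (hp : IsType chevG2 2 CoxeterMatrix.G₂) : ¬ 3 ^ 2 ∣ Nat.card CoxeterMatrix.G₂.Group ∧
    Tors CoxeterMatrix.G₂.toCoxeterSystem hp.isCartan 3 := by
  have := finW hp
  have hW : ¬ 3 ^ 2 ∣ Nat.card CoxeterMatrix.G₂.Group := by rw [card_G2]; norm_num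
  set cs := CoxeterMatrix.G₂.toCoxeterSystem with hcs
  have hrep := chain_rep hp cs G2q3.hA G2q3.chainOK
  refine ⟨hW, tors_of_rfl Nat.prime_three hW [(1, 1), (cs.simple 0, 1)] (cs.wordProd (G2q3.chain.map Prod.fst)) ?_
    (orderOf_of_data hp cs G2q3.hA G2q3.chainOK Nat.prime_three G2q3.powOK rfl G2q3.oneOK G2q3.neOK) ?_⟩
  · show cs.wordProd [1, 0, 1, 0] = _
    simp only [List.map_cons, List.map_nil, List.prod_cons, List.prod_nil, rfl', wordProd_cons, wordProd_nil, mul_one,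
      one_mul, inv_one, cs.inv_simple, mul_assoc]
  · intro a ha
    simp only [List.mem_cons, List.not_mem_nil, or_false] at ha
    rcases ha with rfl | rfl
    · refine ⟨![-1, -1], ?_⟩
      funext m
      rw [Pi.sub_apply, rep_of_sr hp cs hrep, G2q3.xOK m, map_one, Module.End.one_apply]
      fin_cases m
      · exact (sr_ne (by decide : (0 : Fin 2) ≠ 1)).symm
      · exact (sr_self (1 : Fin 2)).symm
    · refine ⟨![-1, 0], ?_⟩
      funext m
      rw [Pi.sub_apply, rep_of_sr hp cs hrep, G2q3.yOK m]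
      have h1 := chain_rep hp cs G2q3.hA G2q3.sOK 1
      have h2 : cs.wordProd ([((0 : Fin 2), (![![-1, 0], ![3, 1]] : Mat 2))].map Prod.fst) = cs.simple 0 := by
        simp [wordProd_cons, wordProd_nil]
      rw [h2] at h1
      show _ = rep cs hp.isCartan (cs.simple 0) (sr 1) m
      rw [h1]
      rfl

namespace D4q3

def Am : Mat 4 := ![![2, -1, 0, 0], ![-1, 2, -1, -1], ![0, -1, 2, 0], ![0, -1, 0, 2]]

def chain : List (Fin 4 × Mat 4) := [
  (0, ![![0, 1, 0, 0], ![-1, -1, 0, 0], ![1, 1, 1, 0], ![1, 1, 0, 1]]),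
  (1, ![![1, 1, 0, 0], ![0, -1, 0, 0], ![0, 1, 1, 0], ![0, 1, 0, 1]])]

def pw : List (Mat 4) := [![![1, 0, 0, 0], ![0, 1, 0, 0], ![0, 0, 1, 0], ![0, 0, 0, 1]],
  ![![-1, -1, 0, 0], ![1, 0, 0, 0], ![0, 1, 1, 0], ![0, 1, 0, 1]],
  ![![0, 1, 0, 0], ![-1, -1, 0, 0], ![1, 1, 1, 0], ![1, 1, 0, 1]]]

def xs : Mat 4 := ![![-2, -3, -3, -1], ![-1, -3, -3, -1], ![0, 0, 0, 0], ![0, 0, 0, 0]]

theorem hA : ∀ i j, Am i j = cartanOf chevD4 4 i j := by decide +kernel
theorem chainOK : ChainOK Am chain := by decide +kernel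
theorem powOK : PowOK (hd chain) pw := by decide +kernel
theorem oneOK : ∀ j m, hdm pw j m = if j = m then 1 else 0 := by decide +kernel
theorem neOK : ∃ j m, hd chain j m ≠ if j = m then 1 else 0 := by decide +kernel
theorem xOK : ∀ j ∈ chain.map Prod.fst, ∀ m, ∑ n, xs j n * hd chain n m - xs j m = if m = j then 1 else 0 := by
  decide +kernel

end D4q3

theorem tors_D4 (hp : IsType chevD4 4 coxeterD4) : ¬ 3 ^ 2 ∣ Nat.card coxeterD4.Group ∧
    Tors coxeterD4.toCoxeterSystem hp.isCartan 3 := by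
  have := finW hp
  have hW : ¬ 3 ^ 2 ∣ Nat.card coxeterD4.Group := by rw [card_D4]; norm_num
  exact ⟨hW, tors_of_data hp _ D4q3.hA D4q3.chainOK Nat.prime_three D4q3.powOK rfl D4q3.oneOK D4q3.neOK D4q3.xOK hW⟩

end Cfsg.Agent.H225.Gen
end

-- part: H225/Gen/NS
section
/-!
# `(w g)² ≠ -1` in the types `G₂`, `E₆`, `²E₆`, `E₇`, `³D₄`; toral groups (S2187, helper225)
-/

set_option autoImplicit false
set_option linter.unusedSectionVars false
set_option linter.unusedVariables false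

namespace Cfsg.Agent.H225.Gen

open CoxeterSystem Cfsg Cfsg.Lie Cfsg.Lie.ChevalleyDatum
open Cfsg.Agent.ChevalleyStructure Cfsg.Agent.ChevalleyStructure.Elts Cfsg.Agent.ChevalleyStructure.CoxeterGeom
  Cfsg.Agent.ChevalleyStructure.CoxeterGeomTypes Cfsg.Agent.ChevalleyStructure.NPerm
open Cfsg.Agent.Tits.Roots Cfsg.Agent.Tits.Core Cfsg.Agent.Nodes Cfsg.Agent.Nodes.Reps Cfsg.Agent.Nodes.BNOf
  Cfsg.Agent.Nodes.RGDChev Cfsg.Agent.Nodes.Coroot Cfsg.Agent.Nodes.SubComb Cfsg.Agent.BpExc.Fr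
open Cfsg.Agent.H818.StrP.UTab Cfsg.Agent.H818.StrP.UAct Cfsg.Agent.H123.ExcComb

universe u v

section Mod

variable {D : ChevalleyDatum} {l : ℕ} {M : CoxeterMatrix (Fin l)} (hp : IsType D l M) {W : Type*} [Group W]
  (cs : CoxeterSystem M W) {g : (Fin l → ℤ) ≃+ (Fin l → ℤ)}

/-- `W` acts trivially on the vectors of `n Λ*` modulo `n Λ` -/
theorem rep_mod {n : ℤ} {v : Fin l → ℤ} (hv : ∀ i, n ∣ pairing (cartanOf D l) i v) (w : W) :
    ∃ c : Fin l → ℤ, rep cs hp.isCartan w v = v + n • c := by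
  have := finite_W hp cs
  induction w using cs.simple_induction_left with
  | one => exact ⟨0, by rw [map_one, Module.End.one_apply, smul_zero, add_zero]⟩
  | mul_simple_left w i ih =>
    obtain ⟨c, hc⟩ := ih
    obtain ⟨a, ha⟩ : n ∣ pairing (cartanOf D l) i (v + n • c) := by
      have h1 : pairing (cartanOf D l) i (v + n • c) = pairing (cartanOf D l) i v + n * pairing (cartanOf D l) i c := by
        rw [← cpr_sr cs hp.isCartan, ← cpr_sr cs hp.isCartan, ← cpr_sr cs hp.isCartan,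
          cpr_add cs hp.isCartan _ _ (isRoot_sr cs hp.isCartan i), cpr_smul cs hp.isCartan _ _ (isRoot_sr cs hp.isCartan i)]
      rw [h1]
      exact dvd_add (hv i) (dvd_mul_right _ _)
    refine ⟨c - a • sr i, ?_⟩
    rw [rep_mul_apply, hc, rep_simple_eq, ha]
    module

/-- **The argument with `Λ* / Λ`.** -/
theorem ns_mod (hg : ∀ a, IsRoot cs hp.isCartan (g a) ↔ IsRoot cs hp.isCartan a) {π : Equiv.Perm (Fin l)}
    (hgπ : ∀ v i, g v i = v (π i)) {n : ℤ} {v : Fin l → ℤ} (hv : ∀ i, n ∣ pairing (cartanOf D l) i v) {i : Fin l}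
    (hi : ¬ n ∣ v (π (π i)) + v i) (w : W) :
    ∃ x, rep cs hp.isCartan w (g (rep cs hp.isCartan w (g x))) ≠ -x := by
  have := finite_W hp cs
  by_contra hcon
  push Not at hcon
  have hgs : ∀ j, g (sr (π j)) = sr j := by
    intro j
    funext m
    rw [hgπ]
    by_cases hm : m = j
    · rw [hm, sr_self, sr_self]
    · rw [sr_ne hm, sr_ne fun h => hm (π.injective h)]
  have hv' : ∀ v : Fin l → ℤ, (∀ i, n ∣ pairing (cartanOf D l) i v) → ∀ i, n ∣ pairing (cartanOf D l) i (g v) := by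
    intro v hv j
    rw [← cpr_sr cs hp.isCartan, ← hgs j, cpr_g' hp cs hg (isRoot_sr cs hp.isCartan _), cpr_sr]
    exact hv _
  obtain ⟨c₁, h1⟩ := rep_mod hp cs (hv' v hv) w
  obtain ⟨c₂, h2⟩ := rep_mod hp cs (hv' _ (hv' v hv)) w
  have h3 := hcon v
  rw [h1, map_add, map_zsmul, map_add, h2, map_zsmul] at h3
  have h4 := congrFun h3 i
  simp only [Pi.add_apply, Pi.smul_apply, Pi.neg_apply, smul_eq_mul, hgπ] at h4
  apply hi
  have h5 : v (π (π i)) + v i = n * (-(c₂ i) - rep cs hp.isCartan w (g c₁) i) := by linarith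
  rw [h5]
  exact dvd_mul_right _ _

/-- the determinant argument -/
theorem ns_odd {l : ℕ} (hl : Odd l) (G : (Fin l → ℤ) ≃+ (Fin l → ℤ)) : ∃ x, G (G x) ≠ -x := by
  by_contra hcon
  push Not at hcon
  let f : (Fin l → ℤ) →ₗ[ℤ] (Fin l → ℤ) := G.toAddMonoidHom.toIntLinearMap
  have h1 : f * f = -1 := by
    apply LinearMap.ext
    intro x
    exact hcon x
  have h2 : LinearMap.det f * LinearMap.det f = LinearMap.det (-1 : Module.End ℤ (Fin l → ℤ)) := by
    rw [← map_mul, h1]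
  have h3 : LinearMap.det (-1 : Module.End ℤ (Fin l → ℤ)) = -1 := by
    have h4 : (-1 : Module.End ℤ (Fin l → ℤ)) = (-1 : ℤ) • 1 := by
      rw [neg_smul, one_smul]
    rw [h4, LinearMap.det_smul, map_one, mul_one, Module.finrank_fin_fun, hl.neg_one_pow]
  rw [h3] at h2
  nlinarith [mul_self_nonneg (LinearMap.det f)]

end Mod

section Types

theorem hi_G2 : HiList chevG2 := by simp [HiList]
theorem hi_D4 : HiList chevD4 := by simp [HiList]
theorem hi_F4 : HiList chevF4 := by simp [HiList]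
theorem hi_E6 : HiList chevE6 := by simp [HiList]
theorem hi_E7 : HiList chevE7 := by simp [HiList]
theorem hi_E8 : HiList chevE8 := by simp [HiList]

/-- no orthogonal long roots in `G₂` -/
theorem cartan_G2 : cartanOf chevG2 2 0 1 = -3 := by decide +kernel

theorem node_G2 : node chevG2 = 1 := by decide +kernel

theorem tab_G2 : ∀ s < chevG2.nroots, vec chevG2 2 s 1 = 0 → vec chevG2 2 s 0 = 1 ∨ vec chevG2 2 s 0 = -1 := by
  decide +kernel

theorem nd_G2 (hp : IsType chevG2 2 CoxeterMatrix.G₂) : nd hi_G2 hp = 1 := Fin.ext node_G2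

theorem ns_G2 (hp : IsType chevG2 2 CoxeterMatrix.G₂) {W : Type*} [Group W] (cs : CoxeterSystem CoxeterMatrix.G₂ W)
    {g : (Fin 2 → ℤ) ≃+ (Fin 2 → ℤ)} (hg : ∀ a, IsRoot cs hp.isCartan (g a) ↔ IsRoot cs hp.isCartan a)
    (hgθ : g (th chevG2 2) = th chevG2 2) (w : W) :
    ∃ x, rep cs hp.isCartan w (g (rep cs hp.isCartan w (g x))) ≠ -x := by
  have := finite_W hp cs
  by_contra hcon
  push Not at hcon
  have hθ := th_root hi_G2 hp cs
  -- `b = w g θ` is orthogonal to `θ`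
  set b := rep cs hp.isCartan w (g (th chevG2 2)) with hb
  have hbL : b ∈ LL cs hp := ⟨w, by rw [hb, hgθ]⟩
  have hbr := LL_root hi_G2 hp cs hbL
  have h1 : cpr cs hp.isCartan b (th chevG2 2) = 0 := by
    have h2 : cpr cs hp.isCartan (rep cs hp.isCartan w (g b)) (rep cs hp.isCartan w (g (th chevG2 2))) =
        cpr cs hp.isCartan b (th chevG2 2) := by
      rw [cpr_rep cs hp.isCartan _ _ ((hg _).2 hθ), cpr_g' hp cs hg hθ]
    rw [hb, hcon, ← hb, cpr_neg cs hp.isCartan _ hbr] at h2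
    by_contra h7
    rcases lt_or_gt_of_ne h7 with h8 | h8
    · have h9 := (cpr_pos_comm (h := hp.isCartan) (cs := cs) hbr hθ.neg).1 (by
        rw [cpr_neg_right cs hp.isCartan _ hθ]; omega)
      rw [cpr_neg cs hp.isCartan _ hbr] at h9
      omega
    · have h9 := (cpr_pos_comm (h := hp.isCartan) (cs := cs) hbr hθ).1 h8
      omega
  rw [cpr_th hi_G2 hp cs, nd_G2] at h1
  -- `b = ± α_0`
  obtain ⟨s, hs, hsb⟩ := (isRoot_iff hp cs b).1 hbr
  have h2 := tab_G2 s hs (by rw [hsb]; exact h1)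
  rw [hsb] at h2
  have hle := (LL_long hi_G2 hp cs).le b hbL
  have h0 := isRoot_sr cs hp.isCartan (0 : Fin 2)
  have h01 := isRoot_sr cs hp.isCartan (1 : Fin 2)
  have h3 : cpr cs hp.isCartan (sr 1) (sr 0) = -3 := by
    rw [cpr_sr, pairing_sr']
    exact cartan_G2
  rcases h2 with h2 | h2
  · have hb0 : b = sr 0 := by
      funext m
      fin_cases m
      · show b 0 = (sr (0 : Fin 2) : Fin 2 → ℤ) 0
        rw [sr_self, h2]
      · show b 1 = (sr (0 : Fin 2) : Fin 2 → ℤ) 1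
        rw [sr_ne (by decide), h1]
    have h4 := hle (-sr 1) h01.neg (by
      intro h5
      have h6 := congrFun h5 1
      rw [Pi.neg_apply, sr_self, h1] at h6
      omega)
    rw [hb0, cpr_neg cs hp.isCartan _ h0, h3] at h4
    omega
  · have hb0 : b = -sr 0 := by
      funext m
      fin_cases m
      · show b 0 = -(sr (0 : Fin 2) : Fin 2 → ℤ) 0
        rw [sr_self, h2]
      · show b 1 = -(sr (0 : Fin 2) : Fin 2 → ℤ) 1
        rw [sr_ne (by decide), h1]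
        rfl
    have h4 := hle (sr 1) h01 (by
      intro h5
      have h6 := congrFun h5 1
      rw [sr_self, h1] at h6
      omega)
    rw [hb0, cpr_neg_right cs hp.isCartan _ h0, h3] at h4
    omega

/-- the vector `3 ω` of `E₆` -/
def v6 : Fin 6 → ℤ := ![4, 3, 5, 6, 4, 2]

theorem v6_dvd : ∀ i, (3 : ℤ) ∣ pairing (cartanOf chevE6 6) i v6 := by decide +kernel

/-- the vector `2 ω` of `D₄` -/
def v4 : Fin 4 → ℤ := ![2, 2, 1, 1]

theorem v4_dvd : ∀ i, (2 : ℤ) ∣ pairing (cartanOf chevD4 4) i v4 := by decide +kernel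

end Types

end Cfsg.Agent.H225.Gen
end
end

-- part: H225/Gen/Row
section
set_option linter.all false
open scoped Cfsg.Agent.FastGrp

/-!
# The inner-diagonal part of the rows of the exceptional groups for non-torsion primes (S2187, helper225)

* `toral_all` : elementary abelian `p`-subgroups of `D.group (KK r)` are toral (`5 ≤ p`, not `E₈`, `p = 5`; or `p = 3`, type
  `G₂`, `D₄`);
* `x12` : `GamY m.ι p E = ⊤` for toral `E`; `x12_r`: only the `r`-elements of the centralisers;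
* `genIn_toral` : `GenIn m p`; `genIn_G2`, `genIn_D4` (`³D₄`), `genIn_E6`, `genIn_E7`, `genIn_F4`, `genIn_E8`.
-/

set_option autoImplicit false
set_option linter.unusedSectionVars false
set_option linter.unusedVariables false

namespace Cfsg.Agent.H225.Gen

open CoxeterSystem Cfsg Cfsg.Lie Cfsg.Lie.ChevalleyDatum
open Cfsg.Agent.ChevalleyStructure Cfsg.Agent.ChevalleyStructure.Elts Cfsg.Agent.ChevalleyStructure.CoxeterGeom
  Cfsg.Agent.ChevalleyStructure.CoxeterGeomTypes Cfsg.Agent.ChevalleyStructure.NPerm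
open Cfsg.Agent.Tits.Roots Cfsg.Agent.Tits.Core Cfsg.Agent.Nodes Cfsg.Agent.Nodes.Reps Cfsg.Agent.Nodes.BNOf
  Cfsg.Agent.Nodes.RGDChev Cfsg.Agent.Nodes.Coroot Cfsg.Agent.Nodes.SubComb Cfsg.Agent.BpExc.Fr
open Cfsg.Agent.KFacts.RgdField Cfsg.Agent.KFacts.RgdChevCoord
open Cfsg.Agent.H818.StrP.UTab Cfsg.Agent.H818.StrP.UAct Cfsg.Agent.H123.ExcComb
open Cfsg.Agent.H469.Exc Cfsg.Agent.H316.U3 Cfsg.Agent.H316.U6 Cfsg.Agent.H818.Gen Cfsg.Agent.H795.TorSub
  Cfsg.Agent.H795.SetTor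

universe u v

section

variable {D : ChevalleyDatum} {l : ℕ} {M : CoxeterMatrix (Fin l)} {hp : IsType D l M} {r q : ℕ}
  [hr : Fact r.Prime] {K₀ : Type v} [Group K₀]

theorem pi_of_refl (m : MData hp r q K₀) (hg : m.g = AddEquiv.refl _) (i : Fin l) : m.π i = i := by
  have h1 := m.perm (sr i) i
  rw [hg, AddEquiv.refl_apply, sr_self] at h1
  by_contra h2
  rw [sr_ne h2] at h1
  exact one_ne_zero h1

theorem pi_of_permE (m : MData hp r q K₀) {ρ : Equiv.Perm (Fin l)} (hg : m.g = H720.TwFr.permE ρ) (i : Fin l) :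
    m.π i = ρ.symm i := by
  have h1 := m.perm (sr (ρ.symm i)) i
  have h2 : H720.TwFr.permE ρ (sr (ρ.symm i)) i = 1 := sr_self (ρ.symm i)
  rw [hg, h2] at h1
  by_contra h3
  rw [sr_ne h3] at h1
  exact one_ne_zero h1

/-- the primes for which all elementary abelian subgroups are toral -/
def TorP (D : ChevalleyDatum) (p : ℕ) : Prop :=
  (5 ≤ p ∧ (D = chevE8 → p ≠ 5)) ∨ (p = 3 ∧ (D = chevG2 ∨ D = chevD4))

theorem tors_all (hp : IsType D l M) {p : ℕ} (hpp : p.Prime) (hc : TorP D p) :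
    ¬ p ^ 2 ∣ Nat.card M.Group ∧ Tors M.toCoxeterSystem hp.isCartan p := by
  rcases hc with ⟨h5, h8⟩ | ⟨rfl, hD⟩
  · exact H508.Tor.tors_five hp hpp h5 h8
  · have h := hp
    simp only [IsType, typeList, List.mem_cons, List.not_mem_nil, or_false, Prod.mk.injEq] at h
    have hne : ∀ {D D' : ChevalleyDatum}, D.nroots ≠ D'.nroots → D ≠ D' := fun h e => h (e ▸ rfl)
    have hB : chevB2 ≠ chevG2 ∧ chevB2 ≠ chevD4 := ⟨hne (by decide +kernel), hne (by decide +kernel)⟩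
    have hF : chevF4 ≠ chevG2 ∧ chevF4 ≠ chevD4 := ⟨hne (by decide +kernel), hne (by decide +kernel)⟩
    have h6 : chevE6 ≠ chevG2 ∧ chevE6 ≠ chevD4 := ⟨hne (by decide +kernel), hne (by decide +kernel)⟩
    have h7 : chevE7 ≠ chevG2 ∧ chevE7 ≠ chevD4 := ⟨hne (by decide +kernel), hne (by decide +kernel)⟩
    have h8 : chevE8 ≠ chevG2 ∧ chevE8 ≠ chevD4 := ⟨hne (by decide +kernel), hne (by decide +kernel)⟩
    rcases h with ⟨rfl, h⟩ | ⟨rfl, h⟩ | ⟨rfl, h⟩ | ⟨rfl, h⟩ | ⟨rfl, h⟩ | ⟨rfl, h⟩ | ⟨rfl, h⟩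
    all_goals cases h
    · exact tors_G2 hp
    · exact absurd hD (by tauto)
    · exact tors_D4 hp
    · exact absurd hD (by tauto)
    · exact absurd hD (by tauto)
    · exact absurd hD (by tauto)
    · exact absurd hD (by tauto)

/-- **Elementary abelian subgroups are toral.** -/
theorem toral_all (hp : IsType D l M) {p : ℕ} (hpp : p.Prime) (hpr : p ≠ r) (hc : TorP D p)
    {E : Subgroup ↥(D.group (KK r))} [Finite ↥E] (hE : IsElementaryAbelian p E) :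
    ∃ z : ↥(D.group (KK r)), ∀ a ∈ E, z * a * z⁻¹ ∈ TT D (KK r) := by
  have := Fact.mk hpp
  obtain ⟨hW, hT⟩ := tors_all hp hpp hc
  refine exists_toral_abelian hp r (locFin r) hpp hpr hW hT (elab_isPGroup hE) fun a ha b hb => ?_
  have hcomm := hE.1
  exact congrArg Subtype.val (hcomm.is_comm.comm (⟨a, ha⟩ : ↥E) ⟨b, hb⟩)

theorem finite_of_fix (m : MData hp r q K₀) {E : Subgroup ↥(D.group (KK r))} (hσ : ∀ y ∈ E, m.σ y = y) :
    Finite ↥E := by
  have := m.fin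
  exact Finite.of_injective (fun a : ↥E => (⟨a.1, hσ a.1 a.2⟩ : ↥(fixedSubgroup m.σ)))
    fun a b h => Subtype.ext (congrArg (fun z : ↥(fixedSubgroup m.σ) => z.1) h)

/-- the condition `(w g)² ≠ -1` for all `w` -/
def NS (m : MData hp r q K₀) : Prop :=
  ∀ w, ∃ x, rep M.toCoxeterSystem hp.isCartan w (m.g (rep M.toCoxeterSystem hp.isCartan w (m.g x))) ≠ -x

/-- **X1 and X2**: toral `E`. -/
theorem x12 (m : MData hp r q K₀) (h : HiList D) [IsSimpleGroup K₀] (hq : 3 ≤ q) (hG2 : D = chevG2 → 4 ≤ q)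
    {p : ℕ} [hpp : Fact p.Prime] {E : Subgroup ↥(D.group (KK r))} (hE : IsElementaryAbelian p E)
    (hEσ : ∀ y ∈ E, m.σ y = y) (hE2 : p ^ 2 ≤ Nat.card ↥E)
    {z : ↥(D.group (KK r))} (hz : ∀ a ∈ E, z * a * z⁻¹ ∈ TT D (KK r))
    (hNS : ¬ p ∣ q ^ 2 + 1 ∨ NS m) : GamY m.ι p E = ⊤ := by
  have := m.finite
  have := finite_of_fix m hEσ
  have hp1 := hpp.out.one_lt
  obtain ⟨F, hF, hFi⟩ := exists_hyperplane hE (le_trans (by nlinarith) hE2)
  exact gen_top h m hq hG2 hpp.out (fun a ha => hE.2 a ha) ⟨F, hF, hFi⟩ hEσ hz hNS fun F hF hFi a ha =>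
    mem_GamY hF hFi fun y hy => (ha y hy).symm

/-- **X1 and X2** for a toral subgroup `F₀` and a subgroup `M₀` containing the `r`-elements of the centralisers of the
hyperplanes of `F₀`. -/
theorem x12_r (m : MData hp r q K₀) (h : HiList D) [IsSimpleGroup K₀] (hq : 3 ≤ q) (hG2 : D = chevG2 → 4 ≤ q)
    {p : ℕ} [hpp : Fact p.Prime] {F₀ : Subgroup ↥(D.group (KK r))} (hE : IsElementaryAbelian p F₀)
    (hEσ : ∀ y ∈ F₀, m.σ y = y) (hE2 : p ≤ Nat.card ↥F₀)
    {z : ↥(D.group (KK r))} (hz : ∀ a ∈ F₀, z * a * z⁻¹ ∈ TT D (KK r))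
    (hNS : ¬ p ∣ q ^ 2 + 1 ∨ NS m) {M₀ : Subgroup K₀}
    (hM : ∀ F ≤ F₀, F.relIndex F₀ = p → ∀ a : K₀, (∃ j, a ^ r ^ j = 1) → (∀ x ∈ F, m.ι a * x = x * m.ι a) → a ∈ M₀) :
    M₀ = ⊤ := by
  have := m.finite
  have := finite_of_fix m hEσ
  obtain ⟨F, hF, hFi⟩ := exists_hyperplane hE hE2
  exact gen_top_r h m hq hG2 hpp.out (fun a ha => hE.2 a ha) ⟨F, hF, hFi⟩ hEσ hz hNS hM

/-- **`GenIn`** for the primes with toral subgroups. -/
theorem genIn_toral (m : MData hp r q K₀) (h : HiList D) [IsSimpleGroup K₀] (hq : 3 ≤ q) (hG2 : D = chevG2 → 4 ≤ q)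
    {p : ℕ} (hpp : p.Prime) (hpr : p ≠ r) (hc : TorP D p) (hNS : ¬ p ∣ q ^ 2 + 1 ∨ NS m) : GenIn m p := by
  have := Fact.mk hpp
  intro E hE hσ hE2
  have := finite_of_fix m hσ
  obtain ⟨z, hz⟩ := toral_all hp hpp hpr hc hE
  exact x12 m h hq hG2 hE hσ hE2 hz hNS

end

/-! ### the types -/

section

variable {r q : ℕ} [hr : Fact r.Prime] {K₀ : Type v} [Group K₀]

theorem three_not_dvd_sq (q : ℕ) : ¬ 3 ∣ q ^ 2 + 1 := by
  intro h
  have h1 : (q ^ 2 + 1) % 3 = 0 := Nat.mod_eq_zero_of_dvd h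
  have h2 : q % 3 = 0 ∨ q % 3 = 1 ∨ q % 3 = 2 := by omega
  rcases h2 with h2 | h2 | h2 <;> simp [Nat.add_mod, Nat.pow_mod, h2] at h1

theorem ns_g2 {hp : IsType chevG2 2 CoxeterMatrix.G₂} (m : MData hp r q K₀) : NS m :=
  ns_G2 hp _ m.fr.root m.top

theorem ns_e7 {hp : IsType chevE7 7 CoxeterMatrix.E₇} (m : MData hp r q K₀) : NS m := fun w =>
  ns_odd (by decide) (m.g.trans (repAut _ hp.isCartan w))

theorem ns_e6 {hp : IsType chevE6 6 CoxeterMatrix.E₆} (m : MData hp r q K₀) (hπ : ∀ i, m.π (m.π i) = i) : NS m :=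
  ns_mod hp _ m.fr.root m.perm v6_dvd (i := 0) (by rw [hπ]; decide)

theorem ns_e6' {hp : IsType chevE6 6 CoxeterMatrix.E₆} (m : MData hp r q K₀)
    (hg : m.g = AddEquiv.refl _ ∨ m.g = H720.TwFr.permE H720.TwFr.rho6) : NS m := by
  refine ns_e6 m fun i => ?_
  rcases hg with hg | hg
  · rw [pi_of_refl m hg, pi_of_refl m hg]
  · rw [pi_of_permE m hg, pi_of_permE m hg]
    revert i
    decide

theorem ns_d4 {hp : IsType chevD4 4 coxeterD4} (m : MData hp r q K₀) (hg : m.g = H720.TwFr.permE H720.TwFr.rho4) :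
    NS m :=
  ns_mod hp _ m.fr.root m.perm v4_dvd (i := 0) (by
    rw [pi_of_permE m hg, pi_of_permE m hg]
    decide)

variable {p : ℕ} (hpp : p.Prime) (hpr : p ≠ r) [IsSimpleGroup K₀]

include hpp hpr

theorem genIn_G2 {hp : IsType chevG2 2 CoxeterMatrix.G₂} (m : MData hp r q K₀) (h3 : 3 ≤ p) (hq : 4 ≤ q) :
    GenIn m p := by
  refine genIn_toral m hi_G2 (by omega) (fun _ => hq) hpp hpr ?_ (Or.inr (ns_g2 m))
  rcases Nat.lt_or_ge p 5 with h4 | h4
  · have h5 : p = 3 := by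
      rcases (by omega : p = 3 ∨ p = 4) with h6 | h6
      · exact h6
      · rw [h6] at hpp
        exact absurd hpp (by norm_num)
    exact Or.inr ⟨h5, Or.inl rfl⟩
  · exact Or.inl ⟨h4, fun h5 => absurd h5 (ne_of_apply_ne ChevalleyDatum.nroots (by decide +kernel))⟩

theorem genIn_D4 {hp : IsType chevD4 4 coxeterD4} (m : MData hp r q K₀) (hg : m.g = H720.TwFr.permE H720.TwFr.rho4)
    (h3 : 3 ≤ p) (hq : 3 ≤ q) : GenIn m p := by
  refine genIn_toral m hi_D4 hq (fun h5 => absurd h5 (ne_of_apply_ne ChevalleyDatum.nroots (by decide +kernel)))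
    hpp hpr ?_ (Or.inr (ns_d4 m hg))
  rcases Nat.lt_or_ge p 5 with h4 | h4
  · have h5 : p = 3 := by
      rcases (by omega : p = 3 ∨ p = 4) with h6 | h6
      · exact h6
      · rw [h6] at hpp
        exact absurd hpp (by norm_num)
    exact Or.inr ⟨h5, Or.inr rfl⟩
  · exact Or.inl ⟨h4, fun h5 => absurd h5 (ne_of_apply_ne ChevalleyDatum.nroots (by decide +kernel))⟩

theorem genIn_E6 {hp : IsType chevE6 6 CoxeterMatrix.E₆} (m : MData hp r q K₀)
    (hg : m.g = AddEquiv.refl _ ∨ m.g = H720.TwFr.permE H720.TwFr.rho6) (h5 : 5 ≤ p) (hq : 3 ≤ q) : GenIn m p :=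
  genIn_toral m hi_E6 hq (fun h5 => absurd h5 (ne_of_apply_ne ChevalleyDatum.nroots (by decide +kernel))) hpp hpr
    (Or.inl ⟨h5, fun h5 => absurd h5 (ne_of_apply_ne ChevalleyDatum.nroots (by decide +kernel))⟩) (Or.inr (ns_e6' m hg))

theorem genIn_E7 {hp : IsType chevE7 7 CoxeterMatrix.E₇} (m : MData hp r q K₀) (h5 : 5 ≤ p) (hq : 3 ≤ q) :
    GenIn m p :=
  genIn_toral m hi_E7 hq (fun h5 => absurd h5 (ne_of_apply_ne ChevalleyDatum.nroots (by decide +kernel))) hpp hpr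
    (Or.inl ⟨h5, fun h5 => absurd h5 (ne_of_apply_ne ChevalleyDatum.nroots (by decide +kernel))⟩) (Or.inr (ns_e7 m))

theorem genIn_E8 {hp : IsType chevE8 8 CoxeterMatrix.E₈} (m : MData hp r q K₀) (h5 : 7 ≤ p) (hq : 3 ≤ q)
    (hd : ¬ p ∣ q ^ 2 + 1) : GenIn m p :=
  genIn_toral m hi_E8 hq (fun h5 => absurd h5 (ne_of_apply_ne ChevalleyDatum.nroots (by decide +kernel))) hpp hpr
    (Or.inl ⟨by omega, fun _ => by omega⟩) (Or.inl hd)

end

end Cfsg.Agent.H225.Gen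
end

-- part: H496/Mono/Stmt
section
set_option linter.all false

/-!
# S2187, X4, p = 3: the statements of the pieces (hub file, helper496)

Plan: `tools/plans/S2187_X4.md`.  `cs = M.toCoxeterSystem`, `rep`, `cpr` as everywhere.

* `OrbF`, `OrbO`, `OrbA`, `OrbN` : the orbit types; `PTrich hp` : M4a (helper655);
* `P5 hp r p Orb` : M5 — `P5 hp r 3 (OrbF hp)`, `P5 hp r 3 (OrbO hp)` (helper193 / free hand), `P5 hp r 3 (OrbA hp)`,
  `P5 hp r 3 (OrbN hp)` (helper321);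
* `PNoPlusA m`, `PNoPlusB m` : M6b (helper46);
* `P8a m`, `P8b hp r`, `P8c m` : M8 (helper225, helper240, helper82);
* `P1 m γ` : M1 (helper751).
-/

set_option autoImplicit false
set_option linter.unusedSectionVars false

namespace Cfsg.Agent.H496.Mono

open CoxeterSystem Cfsg Cfsg.Lie Cfsg.Lie.ChevalleyDatum
open Cfsg.Agent.ChevalleyStructure Cfsg.Agent.ChevalleyStructure.Elts Cfsg.Agent.ChevalleyStructure.CoxeterGeom
  Cfsg.Agent.ChevalleyStructure.CoxeterGeomTypes Cfsg.Agent.ChevalleyStructure.NPerm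
open Cfsg.Agent.Tits.Roots Cfsg.Agent.Tits.Core Cfsg.Agent.Nodes Cfsg.Agent.Nodes.Reps Cfsg.Agent.Nodes.BNOf
  Cfsg.Agent.Nodes.SubComb Cfsg.Agent.Nodes.RGDChev Cfsg.Agent.Nodes.Bruhat Cfsg.Agent.Nodes.Coroot
open Cfsg.Agent.KFacts.RgdField Cfsg.Agent.KFacts.RgdChevCoord
open Cfsg.Agent.BpExc Cfsg.Agent.BpExc.TorCent Cfsg.Agent.BpExc.TorChev Cfsg.Agent.BpExc.Tow
  Cfsg.Agent.BpExc.TowChev Cfsg.Agent.BpExc.Fr Cfsg.Agent.BpExc.LangFr
open Cfsg.Agent.H469.Exc Cfsg.Agent.H316.U6 Cfsg.Agent.H818.Gen Cfsg.Agent.H818.Mono Cfsg.Agent.H696.GmnToral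
open Cfsg.Agent.H225.Gen (LL LL_rep LL_root LL_neg)
open Cfsg.Agent.H818.StrP.UTab

universe v

variable {D : ChevalleyDatum} {l : ℕ} {M : CoxeterMatrix (Fin l)} (hp : IsType D l M)

/-! ### the orbit types -/

/-- the root is fixed -/
def OrbF (V : Subgroup M.Group) (a : Fin l → ℤ) : Prop := ∀ v ∈ V, rep M.toCoxeterSystem hp.isCartan v a = a

/-- the orbit consists of three orthogonal roots (`V` of exponent 3) -/
def OrbO (V : Subgroup M.Group) (a : Fin l → ℤ) : Prop :=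
  ∃ f ∈ V, cpr M.toCoxeterSystem hp.isCartan (rep M.toCoxeterSystem hp.isCartan f a) a = 0 ∧
    ∀ v ∈ V, ∃ j : ℕ, rep M.toCoxeterSystem hp.isCartan v a = rep M.toCoxeterSystem hp.isCartan (f ^ j) a

/-- the orbit consists of three roots with sum zero -/
def OrbA (V : Subgroup M.Group) (a : Fin l → ℤ) : Prop :=
  ∃ f ∈ V, a + rep M.toCoxeterSystem hp.isCartan f a + rep M.toCoxeterSystem hp.isCartan (f ^ 2) a = 0 ∧
    ∀ v ∈ V, ∃ j : ℕ, rep M.toCoxeterSystem hp.isCartan v a = rep M.toCoxeterSystem hp.isCartan (f ^ j) a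

/-- the orbit consists of nine roots, three orthogonal triples with sum zero -/
def OrbN (V : Subgroup M.Group) (a : Fin l → ℤ) : Prop :=
  ∃ f ∈ V, ∃ g ∈ V, a + rep M.toCoxeterSystem hp.isCartan f a + rep M.toCoxeterSystem hp.isCartan (f ^ 2) a = 0 ∧
    (∀ v ∈ V, ∃ i j : ℕ, rep M.toCoxeterSystem hp.isCartan v a =
      rep M.toCoxeterSystem hp.isCartan (g ^ i * f ^ j) a) ∧
    ∀ i j : ℕ, ¬ 3 ∣ i → cpr M.toCoxeterSystem hp.isCartan (rep M.toCoxeterSystem hp.isCartan (g ^ i * f ^ j) a) a = 0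

/-- **M4a** (helper655): `D` one of `F₄, E₆, E₇, E₈` -/
def PTrich : Prop :=
  ∀ V : Subgroup M.Group, (∀ v ∈ V, ∀ w ∈ V, v * w = w * v) → (∀ v ∈ V, v ^ 3 = 1) →
    ∀ S ⊆ LL M.toCoxeterSystem hp, (∀ v ∈ V, ∀ a ∈ S, rep M.toCoxeterSystem hp.isCartan v a ∈ S) →
    (∀ v ∈ V, ∀ a ∈ S, cpr M.toCoxeterSystem hp.isCartan (rep M.toCoxeterSystem hp.isCartan v a) a ≠ 1) →
    ∀ a ∈ S, OrbF hp V a ∨ OrbO hp V a ∨ OrbA hp V a ∨ OrbN hp V a

/-- **M5**: the orbits of type `Orb` -/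
def P5 (r : ℕ) [Fact r.Prime] (p : ℕ) (Orb : Subgroup M.Group → (Fin l → ℤ) → Prop) : Prop :=
  ∀ (e : ℕ) (τ : MulAut ↥(D.group (KK r))) (γ : (Fin l → ℤ) ≃+ (Fin l → ℤ)) (E H : Subgroup ↥(D.group (KK r))),
    Sit hp r p e τ γ E H → p ^ 2 ≤ Nat.card ↥E → r ≠ 2 → p ≠ r → 5 ≤ r ^ e → ∀ ε : ℤ, Eps p (r ^ e) ε →
    ∀ a ∈ SS hp γ ε, Orb (VE hp r E) a → InS r l τ H {a, -a}

variable {hp} {r : ℕ} [Fact r.Prime] {q : ℕ} {K₀ : Type v} [Group K₀]

/-- **M6b** (helper46): frames without `60°` -/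
def PNoPlusAt (m : MData hp r q K₀) (γ : (Fin l → ℤ) ≃+ (Fin l → ℤ)) (ε : ℤ) : Prop :=
  ∀ E : Subgroup ↥(D.group (KK r)), IsElementaryAbelian 3 E → (∀ y ∈ E, m.σ y = y) → r ≠ 2 → 3 ≠ r → 5 ≤ q →
    ∀ z : ↥(D.group (KK r)), Eps 3 q ε → NFrame m E z γ →
    ∃ z', NFrame m E z' γ ∧ NoPlus hp r (E.map (MulAut.conj z'⁻¹).toMonoidHom) (SS hp γ ε)

/-- **M6b**, `γ = ε`; `D` one of `F₄, E₆, E₇, E₈` -/
def PNoPlusA (m : MData hp r q K₀) : Prop :=
  ∀ (γ : (Fin l → ℤ) ≃+ (Fin l → ℤ)) (ε : ℤ), (∀ x, γ x = ε • x) → PNoPlusAt m γ ε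

/-- **M6b**, `D = E₆`, `γ = ε ρ` -/
def PNoPlusB {M : CoxeterMatrix (Fin 6)} {hp : IsType chevE6 6 M} (m : MData hp r q K₀) : Prop :=
  ∀ (γ : (Fin 6 → ℤ) ≃+ (Fin 6 → ℤ)) (ε : ℤ), (∀ x, γ x = ε • H720.TwFr.permE H720.TwFr.rho6 x) → PNoPlusAt m γ ε

/-- **M8a** (helper225): the end for `γ = ε` -/
def P8a (m : MData hp r q K₀) : Prop :=
  ∀ E : Subgroup ↥(D.group (KK r)), IsElementaryAbelian 3 E → (∀ y ∈ E, m.σ y = y) → r ≠ 2 → 3 ≠ r → 5 ≤ q →
    ∀ (z : ↥(D.group (KK r))) (γ : (Fin l → ℤ) ≃+ (Fin l → ℤ)) (ε : ℤ), Eps 3 q ε → (∀ x, γ x = ε • x) →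
    NFrame m E z γ → (∀ a, IsRoot M.toCoxeterSystem hp.isCartan a →
      InS r l (MulAut.conj (z⁻¹ * m.σ z) * m.σ) (HZ m 3 E z) {a, -a}) → GamY m.ι 3 E = ⊤

/-- **M8b** (helper240): `D = F₄`: the short roots -/
def P8b (hp : IsType D l M) (r : ℕ) [Fact r.Prime] : Prop :=
  ∀ (e : ℕ) (τ : MulAut ↥(D.group (KK r))) (γ : (Fin l → ℤ) ≃+ (Fin l → ℤ)) (E H : Subgroup ↥(D.group (KK r))),
    Sit hp r 3 e τ γ E H → r ≠ 2 → 3 ≠ r → 5 ≤ r ^ e → ∀ ε : ℤ, Eps 3 (r ^ e) ε → (∀ x, γ x = ε • x) →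
    NoPlus hp r E (LL M.toCoxeterSystem hp) → (∃ f ∈ E, f ∉ TT D (KK r)) →
    (∀ a ∈ LL M.toCoxeterSystem hp, InS r l τ H {a, -a}) →
    ∀ a, IsRoot M.toCoxeterSystem hp.isCartan a → InS r l τ H {a, -a}

/-- **M8c** (helper82): `E₆`, unmatched: `γ = ε ρ`, `ρ` the graph automorphism; the end -/
def P8c {M : CoxeterMatrix (Fin 6)} {hp : IsType chevE6 6 M} (m : MData hp r q K₀) : Prop :=
  ∀ E : Subgroup ↥(chevE6.group (KK r)), IsElementaryAbelian 3 E → (∀ y ∈ E, m.σ y = y) → r ≠ 2 → 3 ≠ r → 5 ≤ q →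
    ∀ (z : ↥(chevE6.group (KK r))) (γ : (Fin 6 → ℤ) ≃+ (Fin 6 → ℤ)) (ε : ℤ), Eps 3 q ε →
    (∀ x, γ x = ε • H720.TwFr.permE H720.TwFr.rho6 x) → NFrame m E z γ →
    NoPlus hp r (E.map (MulAut.conj z⁻¹).toMonoidHom) (SS hp γ ε) →
    (∃ f ∈ E, z⁻¹ * f * z ∉ TT chevE6 (KK r)) →
    (∀ a ∈ SS hp γ ε, InS r 6 (MulAut.conj (z⁻¹ * m.σ z) * m.σ) (HZ m 3 E z) {a, -a}) → GamY m.ι 3 E = ⊤

/-- **M1** (helper751): frames exist -/
def P1 (m : MData hp r q K₀) (γ : (Fin l → ℤ) ≃+ (Fin l → ℤ)) : Prop :=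
  ∀ E : Subgroup ↥(D.group (KK r)), IsElementaryAbelian 3 E → (∀ y ∈ E, m.σ y = y) → ∃ z, NFrame m E z γ

end Cfsg.Agent.H496.Mono
end

-- part: H225/Mono/End
section
prune_inst 0x10600104442200000000000240003c02a2000000000b80008100090400888a000000060100201010000000000000000811000010020000000000000000000000002810060000a100000000801002000000000000000000000000000000000000000000000
set_option linter.all false
open scoped Cfsg.Agent.FastGrp

/-!
# S2187, X4, piece M8a: the end (helper225)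

* `mem_MMZ`, `mem_Sup` : an `r`-element commuting with a finite set `Z` of `p`-elements of the torus, `p ≠ r`, is in the
  group generated by the root groups centralised by `Z`;
* `end_general` : `E' ≤ T` elementary abelian, fixed by `τ`; if the `r`-elements of the groups
  `⟨X a : a trivial on F'⟩`, `F'` a hyperplane of `E'`, fixed by `τ`, are in `HZ m p E z`, then `GamY m.ι p E = ⊤`;
* `pm_of_mod` : roots `a`, `b` with `b - j a ∈ p Λ` satisfy `b = ± a` (table check `chkP D p`);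
* `end_eps` : `γ = ± 1` : the case `E' = T[p]`; `p8a : P8a m`; `end_E8_five` : type `E₈`, `p = 5`.
-/

set_option autoImplicit false
set_option linter.unusedSectionVars false

namespace Cfsg.Agent.H225.Mono

section Tower

open CoxeterSystem Cfsg.Agent.ChevalleyStructure.CoxeterGeom Cfsg.Agent.Tits.Roots Cfsg.Agent.Tits.Core
  Cfsg.Agent.Tits.RootComb Cfsg.Agent.Tits.Exchange Cfsg.Agent.Nodes.Reps Cfsg.Agent.Nodes.BNOf
  Cfsg.Agent.Nodes.StabComb Cfsg.Agent.Nodes.Bruhat Cfsg.Agent.Nodes.OppDec Cfsg.Agent.Nodes.LeviDec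
  Cfsg.Agent.Nodes.NormalForm Cfsg.Agent.Nodes.SubComb Cfsg.Agent.Nodes.Coroot Cfsg.Agent.KFacts.RgdField
  Cfsg.Agent.BpExc.TorCent Cfsg.Agent.BpExc.Tow Cfsg.Agent.BpExc.Fr Cfsg.Agent.BpExc.Pair Cfsg.Agent.H795.SetCent
  Cfsg.Agent.H185.EE

universe u

variable {I W : Type*} {Y : Type u} [Fintype I] [DecidableEq I] [Group W] [Group Y] {M : CoxeterMatrix I}
  {cs : CoxeterSystem M W} {A : I → I → ℤ} {h : IsCartan M A} {r : ℕ}
  {J : Type*} [Preorder J] {T : J → Subgroup Y} {n : I → Y} {X : J → (I → ℤ) → Subgroup Y}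
  (H : Tow cs h r T n X) {F : Type*} [Field F] {xx : (I → ℤ) → F → Y} {χ : (I → ℤ) → Y → F}
  (C : Coords cs h (TL T) n (XL X) xx χ)

/-- an element of order `r ^ j` is a power of its `i`-th power, `i` prime to `r` -/
theorem exists_pow_eq {u : Y} {j i : ℕ} (hr : r.Prime) (hu : u ^ r ^ j = 1) (hi : i.Coprime r) :
    ∃ m : ℕ, u = (u ^ i) ^ m := by
  have h2 : orderOf u ∣ r ^ j := orderOf_dvd_of_pow_eq_one hu
  have h3 : i.Coprime (orderOf u) := (Nat.Coprime.pow_right j hi).coprime_dvd_right h2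
  have h0 : 0 < orderOf u := Nat.pos_of_dvd_of_pos h2 (pow_pos hr.pos _)
  by_cases h7 : orderOf u = 1
  · rw [orderOf_eq_one_iff] at h7
    exact ⟨0, by rw [h7, pow_zero]⟩
  obtain ⟨m, -, hm⟩ := Nat.exists_mul_mod_eq_one_of_coprime h3 (by omega)
  exact ⟨m, by rw [← pow_mul, ← pow_mod_orderOf, hm, pow_one]⟩

include H C in
/-- **The `r`-elements of the centraliser of a set of toral elements.** -/
theorem mem_MMZ [Finite W] [hr : Fact r.Prime] (hA : ChAdd cs h (TL T) χ) (hG : GG cs h (TL T) (XL X) = ⊤)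
    {Z : Set Y} (hfin : Z.Finite) (hZ : Z ⊆ TL T) {l : ℕ} (hl : l.Prime) (hlr : l ≠ r)
    (hZl : ∀ t ∈ Z, ∃ m : ℕ, t ^ l ^ m = 1) {u : Y} (hu : ∀ t ∈ Z, u * t = t * u) (hur : ∃ j, u ^ r ^ j = 1) :
    u ∈ MMZ cs h (XL X) χ Z := by
  obtain ⟨j, hj⟩ := hur
  obtain ⟨m, hm, w, hw, k, hk, hkZ, e⟩ := exists_formPZ H C hG hA hfin hZ hu
  obtain ⟨a, ha⟩ := isPGroup_PPZ C hA hZ hl hZl hw
  -- `k` normalises `MMZ`
  have hkM : ∀ i : ℕ, ∀ y ∈ MMZ cs h (XL X) χ Z, k ^ i * y * (k ^ i)⁻¹ ∈ MMZ cs h (XL X) χ Z := by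
    intro i
    induction i with
    | zero =>
      intro y hy
      rw [pow_zero, one_mul, inv_one, mul_one]; exact hy
    | succ i ih =>
      intro y hy
      have h2 := MMZ_conj H C (ι := Z) (s := fun i => (i : Y)) (t := fun i => (i : Y)) (fun i => hZ i.2) hk
        (fun i => hkZ i i.2) (y := y) (by rw [Subtype.range_coe]; exact hy)
      rw [Subtype.range_coe] at h2
      have h3 := ih _ h2
      have e1 : k ^ i * (k * y * k⁻¹) * (k ^ i)⁻¹ = k ^ (i + 1) * y * (k ^ (i + 1))⁻¹ := by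
        rw [pow_succ]; group
      rwa [e1] at h3
  have h1 : ∀ i : ℕ, u ^ i * (k ^ i)⁻¹ ∈ MMZ cs h (XL X) χ Z := by
    intro i
    induction i with
    | zero => rw [pow_zero, pow_zero, inv_one, one_mul]; exact one_mem _
    | succ i ih =>
      have h2 : u ^ (i + 1) * (k ^ (i + 1))⁻¹ = (u ^ i * (k ^ i)⁻¹) * (k ^ i * m * (k ^ i)⁻¹) := by
        rw [pow_succ, pow_succ, e]; group
      rw [h2]
      exact mul_mem ih (hkM i m hm)
  -- a power of `k` is in the torus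
  have h3 : ∀ i : ℕ, Rp cs H.nsys (w ^ i) (k ^ i) := by
    intro i
    induction i with
    | zero => rw [pow_zero, pow_zero]; exact rp_one
    | succ i ih => rw [pow_succ, pow_succ]; exact ih.mul hk
  have h4 := h3 (l ^ a)
  rw [ha] at h4
  obtain ⟨i, hi⟩ := H.mem_TL.1 h4.mem_of_one
  have h5 := (H.rgd i).tcop
  have h6 : (k ^ l ^ a) ^ Nat.card ↥(T i) = 1 := by
    have h7 : (⟨k ^ l ^ a, hi⟩ : ↥(T i)) ^ Nat.card ↥(T i) = 1 := pow_card_eq_one'
    exact congrArg Subtype.val h7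
  rw [← pow_mul] at h6
  have h8 := h1 (l ^ a * Nat.card ↥(T i))
  rw [h6, inv_one, mul_one] at h8
  obtain ⟨s, hs⟩ := exists_pow_eq hr.out hj (i := l ^ a * Nat.card ↥(T i))
    (Nat.Coprime.mul_left (Nat.Coprime.pow_left a ((Nat.coprime_primes hl hr.out).2 hlr)) h5)
  rw [hs]
  exact pow_mem h8 s

end Tower

open CoxeterSystem Cfsg Cfsg.Lie Cfsg.Lie.ChevalleyDatum
open Cfsg.Agent.ChevalleyStructure Cfsg.Agent.ChevalleyStructure.Elts Cfsg.Agent.ChevalleyStructure.CoxeterGeom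
  Cfsg.Agent.ChevalleyStructure.CoxeterGeomTypes Cfsg.Agent.ChevalleyStructure.NPerm
open Cfsg.Agent.Tits.Roots Cfsg.Agent.Tits.Core Cfsg.Agent.Nodes Cfsg.Agent.Nodes.Reps Cfsg.Agent.Nodes.BNOf
  Cfsg.Agent.Nodes.SubComb Cfsg.Agent.Nodes.RGDChev Cfsg.Agent.Nodes.Bruhat Cfsg.Agent.Nodes.Coroot
open Cfsg.Agent.KFacts.RgdField Cfsg.Agent.KFacts.RgdChevCoord
open Cfsg.Agent.BpExc Cfsg.Agent.BpExc.TorCent Cfsg.Agent.BpExc.TorChev Cfsg.Agent.BpExc.Tow
  Cfsg.Agent.BpExc.TowChev Cfsg.Agent.BpExc.Fr Cfsg.Agent.BpExc.LangFr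
open Cfsg.Agent.H469.Exc Cfsg.Agent.H316.U6 Cfsg.Agent.H818.Gen Cfsg.Agent.H818.Mono Cfsg.Agent.H696.GmnToral
open Cfsg.Agent.H225.Gen Cfsg.Agent.H496.Mono
open Cfsg.Agent.H818.StrP.UTab Cfsg.Agent.H818.StrP.UAct
open Cfsg.Agent.H795.SetCent
open Cfsg.Agent.H129.TorusChar (cX IsMC cX_root cX_mul cX_pow cX_one cX_inj isMC_cX exists_cX)

universe v

section Sup

variable {D : ChevalleyDatum} {l : ℕ} {M : CoxeterMatrix (Fin l)} (hp : IsType D l M) {r : ℕ} [hr : Fact r.Prime]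

/-- the roots trivial on `F` -/
def S0 (hp : IsType D l M) (r : ℕ) [Fact r.Prime] (F : Subgroup ↥(D.group (KK r))) : Set (Fin l → ℤ) :=
  {a | IsRoot M.toCoxeterSystem hp.isCartan a ∧ ∀ t ∈ F, ch hp a t = 1}

/-- **The `r`-elements of the centraliser of a toral `p`-group.** -/
theorem mem_Sup {F : Subgroup ↥(D.group (KK r))} [Finite ↥F] (hFT : F ≤ TT D (KK r)) {p : ℕ} (hpp : p.Prime)
    (hpr : p ≠ r) (hFp : ∀ t ∈ F, ∃ m : ℕ, t ^ p ^ m = 1) {u : ↥(D.group (KK r))} (hu : ∀ t ∈ F, u * t = t * u)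
    (hur : ∃ j, u ^ r ^ j = 1) : u ∈ RGD.Sup (XX D l (KK r)) (S0 hp r F) := by
  have := finite_W hp M.toCoxeterSystem
  have hk := locFin r
  have H := tow (k := KK r) hp M.toCoxeterSystem hk r
  have C := coordsL (k := KK r) hp M.toCoxeterSystem hk r
  have hA := chAddL (k := KK r) hp M.toCoxeterSystem hk r
  have hG := GG_eq_top (k := KK r) hp M.toCoxeterSystem hk
  have hTL := TL_eq (k := KK r) hp hk
  have hXL := XL_eq (k := KK r) hp hk
  have C' : Coords M.toCoxeterSystem hp.isCartan (TL (Tj hp (k := KK r))) (nc hp (KK r)) (XL (Xj hp (k := KK r)))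
      (xc hp) (ch hp) := by
    rw [hTL, hXL]; exact C
  have hA' : ChAdd M.toCoxeterSystem hp.isCartan (TL (Tj hp (k := KK r))) (ch (K := KK r) hp) := by rw [hTL]; exact hA
  have h := mem_MMZ H C' hA' hG (Z := (F : Set ↥(D.group (KK r)))) (Set.toFinite _)
    (fun t ht => by rw [hTL]; exact hFT ht) hpp hpr hFp hu hur
  rw [hXL] at h
  exact h

end Sup

section General

variable {D : ChevalleyDatum} {l : ℕ} {M : CoxeterMatrix (Fin l)} {hp : IsType D l M} {r q : ℕ} [hr : Fact r.Prime]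
  {K₀ : Type v} [Group K₀]

/-- **The end, general form.** -/
theorem end_general (m : MData hp r q K₀) (h : HiList D) [IsSimpleGroup K₀] (hq : 3 ≤ q) (hG2 : D = chevG2 → 4 ≤ q)
    {p : ℕ} [hpp : Fact p.Prime] (hpr : p ≠ r) {E E' : Subgroup ↥(D.group (KK r))} {z : ↥(D.group (KK r))}
    {γ : (Fin l → ℤ) ≃+ (Fin l → ℤ)} (_F : NFrame m E z γ) (hET : E' ≤ TT D (KK r)) (hE : IsElementaryAbelian p E')
    (hτ : ∀ t ∈ E', (MulAut.conj (z⁻¹ * m.σ z) * m.σ) t = t) (hE2 : p ≤ Nat.card ↥E') (hNS : ¬ p ∣ q ^ 2 + 1 ∨ NS m)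
    (hS : ∀ F' ≤ E', F'.relIndex E' = p → InS r l (MulAut.conj (z⁻¹ * m.σ z) * m.σ) (HZ m p E z) (S0 hp r F')) :
    GamY m.ι p E = ⊤ := by
  have hco : ∀ y : ↥(D.group (KK r)), MulAut.conj z⁻¹ (MulAut.conj z y) = y := by
    intro y
    show z⁻¹ * (z * y * z⁻¹) * z⁻¹⁻¹ = y
    group
  have hco' : ∀ y : ↥(D.group (KK r)), MulAut.conj z (MulAut.conj z⁻¹ y) = y := by
    intro y
    show z * (z⁻¹ * y * z⁻¹⁻¹) * z⁻¹ = y
    group
  set F₀ : Subgroup ↥(D.group (KK r)) := E'.map (MulAut.conj z).toMonoidHom with hF₀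
  have hmem : ∀ {y : ↥(D.group (KK r))}, y ∈ F₀ ↔ z⁻¹ * y * z ∈ E' := by
    intro y
    constructor
    · rintro ⟨x, hx, rfl⟩
      have h1 : z⁻¹ * ((MulAut.conj z).toMonoidHom x) * z = x := by
        show z⁻¹ * (z * x * z⁻¹) * z = x
        group
      rwa [h1]
    · intro hy
      refine ⟨_, hy, ?_⟩
      show z * (z⁻¹ * y * z) * z⁻¹ = y
      group
  have hel : IsElementaryAbelian p F₀ := by
    refine ⟨?_, ?_⟩
    · have := hE.1
      constructor
      constructor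
      rintro ⟨_, a, ha, rfl⟩ ⟨_, b, hb, rfl⟩
      have h1 : (⟨a, ha⟩ : ↥E') * ⟨b, hb⟩ = ⟨b, hb⟩ * ⟨a, ha⟩ := this.is_comm.comm _ _
      have h2 : a * b = b * a := congrArg Subtype.val h1
      refine Subtype.ext ?_
      show (MulAut.conj z).toMonoidHom a * (MulAut.conj z).toMonoidHom b =
        (MulAut.conj z).toMonoidHom b * (MulAut.conj z).toMonoidHom a
      rw [← map_mul, h2, map_mul]
    · rintro _ ⟨a, ha, rfl⟩
      rw [← map_pow, hE.2 a ha, map_one]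
  have hfix : ∀ y ∈ F₀, m.σ y = y := by
    intro y hy
    have h1 := frame_fix.1 (hτ _ (hmem.1 hy))
    have h2 : z * (z⁻¹ * y * z) * z⁻¹ = y := by group
    rwa [h2] at h1
  have hcard : Nat.card ↥F₀ = Nat.card ↥E' := (Nat.card_congr (E'.equivMapOfInjective
    (MulAut.conj z).toMonoidHom (MulAut.conj z).injective).toEquiv).symm
  have hfinF : Finite ↥F₀ := finite_of_fix m hfix
  have hfin : Finite ↥E' := Finite.of_equiv _ (E'.equivMapOfInjective (MulAut.conj z).toMonoidHom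
    (MulAut.conj z).injective).symm.toEquiv
  refine x12_r m h hq hG2 hel hfix (by rw [hcard]; exact hE2) (z := z⁻¹) (fun a ha => ?_) hNS ?_
  · have h1 := hET (hmem.1 ha)
    rwa [inv_inv]
  · intro F' hF' hi a har hac
    have hF1 : F'.map (MulAut.conj z⁻¹).toMonoidHom ≤ E' := by
      rintro _ ⟨y, hy, rfl⟩
      have h1 := hmem.1 (hF' hy)
      show z⁻¹ * y * z⁻¹⁻¹ ∈ E'
      rwa [inv_inv]
    have hi' : (F'.map (MulAut.conj z⁻¹).toMonoidHom).relIndex E' = p := by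
      have h1 : (F'.map (MulAut.conj z⁻¹).toMonoidHom).relIndex (F₀.map (MulAut.conj z⁻¹).toMonoidHom) = p := by
        rw [Subgroup.relIndex_map_map_of_injective _ _ (MulAut.conj z⁻¹).injective, hi]
      have h2 : F₀.map (MulAut.conj z⁻¹).toMonoidHom = E' := by
        rw [hF₀, Subgroup.map_map]
        have : ((MulAut.conj z⁻¹).toMonoidHom).comp ((MulAut.conj z).toMonoidHom) = MonoidHom.id _ :=
          MonoidHom.ext hco
        rw [this, Subgroup.map_id]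
      rwa [h2] at h1
    have h1 := hS _ hF1 hi' (z⁻¹ * m.ι a * z)
    have hur : ∃ j : ℕ, (z⁻¹ * m.ι a * z) ^ r ^ j = 1 := by
      obtain ⟨j, hj⟩ := har
      refine ⟨j, ?_⟩
      have h2 : z⁻¹ * m.ι a * z = z⁻¹ * m.ι a * z⁻¹⁻¹ := by rw [inv_inv]
      rw [h2, conj_pow, ← map_pow, hj, map_one, mul_one, mul_inv_cancel]
    have hfinF' : Finite ↥(F'.map (MulAut.conj z⁻¹).toMonoidHom) :=
      Finite.of_injective _ (Subgroup.inclusion_injective hF1)
    have h3 := h1 (mem_Sup hp (fun x hx => hET (hF1 hx)) hpp.out hpr (fun t ht => ⟨1, by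
        rw [pow_one]; exact hE.2 t (hF1 ht)⟩) (by
        rintro _ ⟨y, hy, rfl⟩
        show (z⁻¹ * m.ι a * z) * (z⁻¹ * y * z⁻¹⁻¹) = (z⁻¹ * y * z⁻¹⁻¹) * (z⁻¹ * m.ι a * z)
        have h4 := hac y hy
        calc (z⁻¹ * m.ι a * z) * (z⁻¹ * y * z⁻¹⁻¹) = z⁻¹ * (m.ι a * y) * z := by group
          _ = z⁻¹ * (y * m.ι a) * z := by rw [h4]
          _ = _ := by group) hur) (by
        rw [frame_fix]
        have h5 : z * (z⁻¹ * m.ι a * z) * z⁻¹ = m.ι a := by group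
        rw [h5]
        exact m.fix a) hur
    obtain ⟨b, hb, hb'⟩ := mem_HZ.1 h3
    have h6 : m.ι b = m.ι a := by rw [hb']; group
    rw [← m.inj h6]
    exact hb

end General

/-! ### the case `γ = ± 1` -/

/-- a root which modulo `p` is supported at one node is `±` the simple root -/
def ChkP (D : ChevalleyDatum) (l p : ℕ) : Prop :=
  ∀ s < D.nroots, ∀ i : Fin l, (∀ k, k ≠ i → vec D l s k % (p : ℤ) = 0) →
    (∀ k, k ≠ i → vec D l s k = 0) ∧ (vec D l s i = 1 ∨ vec D l s i = -1)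

instance decChkP (D : ChevalleyDatum) (l p : ℕ) : Decidable (ChkP D l p) := by unfold ChkP; infer_instance

theorem chkP_F4 : ChkP chevF4 4 3 := by decide +kernel
private noncomputable def _root_.Cfsg.Agent.LsF.f77f727_0 : {f // @Cfsg.Agent.ChevalleyStructure.RootVecTab.dig = f} := ⟨_, by first | (delta Cfsg.Agent.ChevalleyStructure.RootVecTab.dig; rewrite [Cfsg.Agent.LsF.nmul_pat]; exact rfl) | exact rfl⟩
private noncomputable def _root_.Cfsg.Agent.LsF.f77f727_1 : {f // @Cfsg.Agent.ChevalleyStructure.RootVecTab.packTab = f} := ⟨_, by first | (delta Cfsg.Agent.ChevalleyStructure.RootVecTab.packTab; rewrite [Cfsg.Agent.LsF.instDecEq_eq, Cfsg.Agent.LsF.ite_eq]; exact rfl) | exact rfl⟩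
private noncomputable def _root_.Cfsg.Agent.LsF.f77f727_2 : {f // @Cfsg.Agent.ChevalleyStructure.RootVecTab.code = f} := ⟨_, by first | (delta Cfsg.Agent.ChevalleyStructure.RootVecTab.code; rewrite [Cfsg.Agent.LsF.f77f727_1.2, Cfsg.Agent.LsF.nmul_pat, Cfsg.Agent.LsF.npow_pat]; exact rfl) | exact rfl⟩
private noncomputable def _root_.Cfsg.Agent.LsF.f77f727_3 : {f // @Cfsg.Agent.ChevalleyStructure.RootVec.rt = f} := ⟨_, by first | (delta Cfsg.Agent.ChevalleyStructure.RootVec.rt; rewrite [Cfsg.Agent.LsF.f77f727_0.2, Cfsg.Agent.LsF.f77f727_2.2, Cfsg.Agent.LsF.nsub_pat, Cfsg.Agent.LsF.isub_pat, Cfsg.Agent.LsF.icast_pat, Cfsg.Agent.LsF.decLt_eq, Cfsg.Agent.LsF.dAnd_eq, Cfsg.Agent.LsF.ite_eq]; exact rfl) | exact rfl⟩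
private noncomputable def _root_.Cfsg.Agent.LsF.f77f727_4 : {f // @Cfsg.Agent.Nodes.RGDChev.vec = f} := ⟨_, by first | (delta Cfsg.Agent.Nodes.RGDChev.vec; rewrite [Cfsg.Agent.LsF.f77f727_3.2]; exact rfl) | exact rfl⟩
theorem chkP_E6 : ChkP chevE6 6 3 := by (refine of_decide_eq_true ?_; (try (delta Cfsg.Agent.H225.Mono.ChkP Cfsg.Agent.H225.Mono.decChkP; rewrite [Cfsg.Agent.LsF.f77f727_4.2, Cfsg.Agent.LsF.imod_pat, Cfsg.Agent.LsF.ineg_pat, Cfsg.Agent.LsF.icast_pat, Cfsg.Agent.LsF.instIDecEq_eq, Cfsg.Agent.LsF.dAnd_eq, Cfsg.Agent.LsF.dOr_eq, Cfsg.Agent.LsF.dNot_eq, Cfsg.Agent.LsF.dFinEq_eq, Cfsg.Agent.LsF.dBallLT_eq, Cfsg.Agent.LsF.dForallFin_eq, Cfsg.Agent.LsF.dAllP_eq, Cfsg.Agent.LsF.decide_eq])); decide +kernel)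
theorem chkP_E7 : ChkP chevE7 7 3 := by (refine of_decide_eq_true ?_; (try (delta Cfsg.Agent.H225.Mono.ChkP Cfsg.Agent.H225.Mono.decChkP; rewrite [Cfsg.Agent.LsF.f77f727_4.2, Cfsg.Agent.LsF.imod_pat, Cfsg.Agent.LsF.ineg_pat, Cfsg.Agent.LsF.icast_pat, Cfsg.Agent.LsF.instIDecEq_eq, Cfsg.Agent.LsF.dAnd_eq, Cfsg.Agent.LsF.dOr_eq, Cfsg.Agent.LsF.dNot_eq, Cfsg.Agent.LsF.dFinEq_eq, Cfsg.Agent.LsF.dBallLT_eq, Cfsg.Agent.LsF.dForallFin_eq, Cfsg.Agent.LsF.dAllP_eq, Cfsg.Agent.LsF.decide_eq])); decide +kernel)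
theorem chkP_E8 : ChkP chevE8 8 3 := by (refine of_decide_eq_true ?_; (try (delta Cfsg.Agent.H225.Mono.ChkP Cfsg.Agent.H225.Mono.decChkP; rewrite [Cfsg.Agent.LsF.f77f727_4.2, Cfsg.Agent.LsF.imod_pat, Cfsg.Agent.LsF.ineg_pat, Cfsg.Agent.LsF.icast_pat, Cfsg.Agent.LsF.instIDecEq_eq, Cfsg.Agent.LsF.dAnd_eq, Cfsg.Agent.LsF.dOr_eq, Cfsg.Agent.LsF.dNot_eq, Cfsg.Agent.LsF.dFinEq_eq, Cfsg.Agent.LsF.dBallLT_eq, Cfsg.Agent.LsF.dForallFin_eq, Cfsg.Agent.LsF.dAllP_eq, Cfsg.Agent.LsF.decide_eq])); decide +kernel)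
theorem chkP_E8' : ChkP chevE8 8 5 := by (refine of_decide_eq_true ?_; (try (delta Cfsg.Agent.H225.Mono.ChkP Cfsg.Agent.H225.Mono.decChkP; rewrite [Cfsg.Agent.LsF.f77f727_4.2, Cfsg.Agent.LsF.imod_pat, Cfsg.Agent.LsF.ineg_pat, Cfsg.Agent.LsF.icast_pat, Cfsg.Agent.LsF.instIDecEq_eq, Cfsg.Agent.LsF.dAnd_eq, Cfsg.Agent.LsF.dOr_eq, Cfsg.Agent.LsF.dNot_eq, Cfsg.Agent.LsF.dFinEq_eq, Cfsg.Agent.LsF.dBallLT_eq, Cfsg.Agent.LsF.dForallFin_eq, Cfsg.Agent.LsF.dAllP_eq, Cfsg.Agent.LsF.decide_eq])); decide +kernel)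

section Mod

variable {D : ChevalleyDatum} {l : ℕ} {M : CoxeterMatrix (Fin l)} (hp : IsType D l M) {p : ℕ}
local notation "cs" => M.toCoxeterSystem

include hp in
theorem root_mod (hpp : p.Prime) (hch : ChkP D l p) {a : Fin l → ℤ} (ha : IsRoot cs hp.isCartan a) :
    ∃ k, ¬ (p : ℤ) ∣ a k := by
  by_contra hcon
  push Not at hcon
  obtain ⟨w, i, rfl⟩ := id ha
  obtain ⟨s, hs, e⟩ := (isRoot_iff hp cs _).1 ha
  rw [← e] at hcon
  have h1 := (hch s hs i fun k _ => Int.emod_eq_zero_of_dvd (hcon k)).2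
  have h2 : (1 : ℤ) < p := by exact_mod_cast hpp.one_lt
  rcases h1 with h1 | h1
  · have h3 := hcon i
    rw [h1] at h3
    exact absurd (Int.le_of_dvd one_pos h3) (not_le.2 h2)
  · have h3 := hcon i
    rw [h1, dvd_neg] at h3
    exact absurd (Int.le_of_dvd one_pos h3) (not_le.2 h2)

/-- **Congruent roots.** -/
theorem pm_of_mod (hch : ChkP D l p) {a b x : Fin l → ℤ} (ha : IsRoot cs hp.isCartan a)
    (hb : IsRoot cs hp.isCartan b) {j : ℤ} (e : b = j • a + (p : ℤ) • x) : b = a ∨ b = -a := by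
  obtain ⟨w, i, rfl⟩ := ha
  have hb' := hb.act w⁻¹
  obtain ⟨s, hs, e'⟩ := (isRoot_iff hp cs _).1 hb'
  have e1 : rep cs hp.isCartan w⁻¹ b = j • sr i + (p : ℤ) • rep cs hp.isCartan w⁻¹ x := by
    rw [e, map_add, map_zsmul, map_zsmul, rep_inv_apply]
  have h1 : ∀ k, k ≠ i → vec D l s k % (p : ℤ) = 0 := by
    intro k hk
    rw [e', e1]
    rw [Pi.add_apply, Pi.smul_apply, Pi.smul_apply, sr_ne hk, smul_zero, zero_add, smul_eq_mul]
    exact Int.mul_emod_right _ _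
  obtain ⟨h2, h3⟩ := hch s hs i h1
  have key : ∀ c : ℤ, vec D l s i = c → rep cs hp.isCartan w⁻¹ b = c • sr i := by
    intro c hc
    rw [← e']
    funext k
    by_cases hk : k = i
    · rw [hk, hc, Pi.smul_apply, sr_self, smul_eq_mul, mul_one]
    · rw [h2 k hk, Pi.smul_apply, sr_ne hk, smul_zero]
  rcases h3 with h3 | h3
  · left
    have h4 := key 1 h3
    rw [one_smul] at h4
    rw [← h4, rep_apply_inv]
  · right
    have h4 := key (-1) h3
    rw [neg_one_smul] at h4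
    have h5 : (sr i : Fin l → ℤ) = -(rep cs hp.isCartan w⁻¹ b) := by rw [h4, neg_neg]
    rw [h5, map_neg, rep_apply_inv, neg_neg]

end Mod

section Eps

variable {D : ChevalleyDatum} {l : ℕ} {M : CoxeterMatrix (Fin l)} (hp : IsType D l M) {r : ℕ} [hr : Fact r.Prime]
local notation "cs" => M.toCoxeterSystem

/-- the elements of `T` of order dividing `p` -/
def TP (hp : IsType D l M) (r p : ℕ) [Fact r.Prime] : Subgroup ↥(D.group (KK r)) where
  carrier := {t | t ∈ TT D (KK r) ∧ t ^ p = 1}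
  one_mem' := ⟨one_mem _, one_pow _⟩
  mul_mem' := by
    rintro a b ⟨ha, ha'⟩ ⟨hb, hb'⟩
    refine ⟨mul_mem ha hb, ?_⟩
    rw [(show Commute a b from TT_comm hp a ha b hb).mul_pow, ha', hb', one_mul]
  inv_mem' := by
    rintro a ⟨ha, ha'⟩
    exact ⟨inv_mem ha, by rw [inv_pow, ha', inv_one]⟩

theorem TP_el {p : ℕ} : IsElementaryAbelian p (TP hp r p) := by
  refine ⟨⟨⟨?_⟩⟩, fun y hy => hy.2⟩
  rintro ⟨a, ha⟩ ⟨b, hb⟩
  exact Subtype.ext (TT_comm hp a ha.1 b hb.1)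

/-- **The coordinate elements of the torus.** -/
theorem exists_coords {d : ℕ} {B : Fin l → Fin l → ℤ} (hB : H129.TorusChar.InvC D l d B) (hd : d ≠ 0) {p : ℕ}
    (hpp : p.Prime) (hpr : p ≠ r) : ∃ ζ : KK r, IsPrimitiveRoot ζ p ∧ ∃ t : Fin l → ↥(D.group (KK r)),
      ∀ j, t j ∈ TP hp r p ∧ ∀ x, cX hp (t j) x = ζ ^ (x j) := by
  have hrk : (p : KK r) ≠ 0 := by
    rw [Ne, CharP.cast_eq_zero_iff (KK r) r]
    intro h1
    exact hpr ((Nat.prime_dvd_prime_iff_eq hr.out hpp).1 h1).symm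
  have : NeZero (p : KK r) := ⟨hrk⟩
  obtain ⟨u, hu⟩ := HasEnoughRootsOfUnity.exists_primitiveRoot (KK r) p
  have hu0 : u ≠ 0 := hu.ne_zero hpp.ne_zero
  have key : ∀ j : Fin l, ∃ t ∈ TT D (KK r), ∀ x, cX hp t x = u ^ (x j) := by
    intro j
    have hMC : IsMC (fun x : Fin l → ℤ => u ^ (x j)) :=
      ⟨by
        show u ^ ((0 : Fin l → ℤ) j) = 1
        rw [Pi.zero_apply, zpow_zero],
      fun x y => by
        show u ^ ((x + y) j) = u ^ (x j) * u ^ (y j)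
        rw [Pi.add_apply, zpow_add₀ hu0]⟩
    obtain ⟨t, ht, hcX⟩ := exists_cX hp hB hd hMC fun i =>
      IsAlgClosed.exists_pow_nat_eq _ (Nat.pos_of_ne_zero hd)
    exact ⟨t, ht, hcX⟩
  choose t ht hcX using key
  refine ⟨u, hu, t, fun j => ⟨⟨ht j, ?_⟩, hcX j⟩⟩
  refine cX_inj hp (pow_mem (ht j) p) (one_mem _) fun i => ?_
  rw [cX_pow hp (ht j), cX_one, hcX, ← zpow_natCast, ← zpow_mul]
  rw [mul_comm, zpow_mul, zpow_natCast, hu.pow_eq_one, one_zpow]

/-- **The roots trivial on a hyperplane of `T[p]`.** -/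
theorem S0_pm {d : ℕ} {B : Fin l → Fin l → ℤ} (hB : H129.TorusChar.InvC D l d B) (hd : d ≠ 0) {p : ℕ}
    (hpp : p.Prime) (hpr : p ≠ r) (hch : ChkP D l p) {F : Subgroup ↥(D.group (KK r))} (hF : F ≤ TP hp r p)
    (hi : F.relIndex (TP hp r p) = p) {a b : Fin l → ℤ} (ha : a ∈ S0 hp r F) (hb : b ∈ S0 hp r F) :
    b = a ∨ b = -a := by
  obtain ⟨ζ, hζ, t, ht⟩ := exists_coords hp hB hd hpp hpr
  have hone : ∀ z : ℤ, ζ ^ z = 1 ↔ (p : ℤ) ∣ z := fun z => hζ.zpow_eq_one_iff_dvd z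
  have hζ0 : ζ ≠ 0 := hζ.ne_zero hpp.ne_zero
  -- an element outside `F`
  obtain ⟨t₀, ht₀, ht₀F⟩ : ∃ t₀ ∈ TP hp r p, t₀ ∉ F := by
    by_contra hcon
    push Not at hcon
    have h1 : F.relIndex (TP hp r p) = 1 := Subgroup.relIndex_eq_one.2 hcon
    rw [hi] at h1
    exact hpp.one_lt.ne' h1
  -- subgroups containing `F` and `t₀` contain `T[p]`
  have hsup : ∀ L : Subgroup ↥(D.group (KK r)), F ≤ L → t₀ ∈ L → TP hp r p ≤ L := by
    intro L h1 h2
    have h3 : F ≤ F ⊔ Subgroup.zpowers t₀ := le_sup_left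
    have h4 : F ⊔ Subgroup.zpowers t₀ ≤ TP hp r p := sup_le hF (by rw [Subgroup.zpowers_le]; exact ht₀)
    have h5 := Subgroup.relIndex_mul_relIndex F (F ⊔ Subgroup.zpowers t₀) (TP hp r p) h3 h4
    rw [hi] at h5
    have h6 : F.relIndex (F ⊔ Subgroup.zpowers t₀) ≠ 1 := by
      intro h7
      rw [Subgroup.relIndex_eq_one] at h7
      exact ht₀F (h7 (Subgroup.mem_sup_right (Subgroup.mem_zpowers t₀)))
    rcases (Nat.dvd_prime hpp).1 ⟨_, h5.symm⟩ with h7 | h7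
    · exact absurd h7 h6
    · rw [h7] at h5
      have h8 : (F ⊔ Subgroup.zpowers t₀).relIndex (TP hp r p) = 1 :=
        Nat.eq_of_mul_eq_mul_left hpp.pos (by rw [h5, mul_one])
      rw [Subgroup.relIndex_eq_one] at h8
      exact h8.trans (sup_le h1 (by rw [Subgroup.zpowers_le]; exact h2))
  have hcm : ∀ (c : Fin l → ℤ) (j : ℤ) (x y : ↥(D.group (KK r))), x ∈ TT D (KK r) → y ∈ TT D (KK r) →
      cX hp (x * y) c ^ j = cX hp x c ^ j * cX hp y c ^ j := by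
    intro c j x y hx hy
    rw [cX_mul hp hx hy, mul_zpow]
  -- the subgroup of the elements with `b = j a`
  let L : ℤ → Subgroup ↥(D.group (KK r)) := fun j =>
    { carrier := {x | x ∈ TT D (KK r) ∧ cX hp x b = cX hp x a ^ j}
      one_mem' := ⟨one_mem _, by rw [cX_one, cX_one, one_zpow]⟩
      mul_mem' := by
        rintro x y ⟨hx, hx'⟩ ⟨hy, hy'⟩
        exact ⟨mul_mem hx hy, by rw [cX_mul hp hx hy, hx', hy', hcm a j x y hx hy]⟩
      inv_mem' := by
        rintro x ⟨hx, hx'⟩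
        refine ⟨inv_mem hx, ?_⟩
        have h1 : cX hp x⁻¹ b * cX hp x b = 1 := by
          rw [← cX_mul hp (inv_mem hx) hx, inv_mul_cancel, cX_one]
        have h2 : cX hp x⁻¹ a ^ j * cX hp x a ^ j = 1 := by
          rw [← hcm a j _ _ (inv_mem hx) hx, inv_mul_cancel, cX_one, one_zpow]
        rw [← hx', ← h1] at h2
        exact (mul_right_cancel₀ ((isMC_cX hp hx).ne_zero b) h2).symm }
  have hFa : ∀ x ∈ F, cX hp x a = 1 := fun x hx => by rw [cX_root hp cs (hF hx).1 ha.1]; exact ha.2 x hx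
  have hFb : ∀ x ∈ F, cX hp x b = 1 := fun x hx => by rw [cX_root hp cs (hF hx).1 hb.1]; exact hb.2 x hx
  have hpw : ∀ c : Fin l → ℤ, cX hp t₀ c ^ p = 1 := fun c => by
    rw [← cX_pow hp ht₀.1, ht₀.2, cX_one]
  have ha1 : cX hp t₀ a ≠ 1 := by
    intro h1
    obtain ⟨k, hk⟩ := root_mod hp hpp hch ha.1
    let L' : Subgroup ↥(D.group (KK r)) :=
      { carrier := {x | x ∈ TT D (KK r) ∧ cX hp x a = 1}
        one_mem' := ⟨one_mem _, cX_one hp a⟩
        mul_mem' := by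
          rintro x y ⟨hx, hx'⟩ ⟨hy, hy'⟩
          exact ⟨mul_mem hx hy, by rw [cX_mul hp hx hy, hx', hy', one_mul]⟩
        inv_mem' := by
          rintro x ⟨hx, hx'⟩
          refine ⟨inv_mem hx, ?_⟩
          have h1 : cX hp x⁻¹ a * cX hp x a = 1 := by
            rw [← cX_mul hp (inv_mem hx) hx, inv_mul_cancel, cX_one]
          rwa [hx', mul_one] at h1 }
    have h2 : t k ∈ L' := hsup L' (fun x hx => ⟨(hF hx).1, hFa x hx⟩) ⟨ht₀.1, h1⟩ (ht k).1
    have h3 : cX hp (t k) a = 1 := h2.2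
    rw [(ht k).2, hone] at h3
    exact hk h3
  have hpf : Fact p.Prime := ⟨hpp⟩
  have hne0 : NeZero p := ⟨hpp.ne_zero⟩
  have hprim : IsPrimitiveRoot (cX hp t₀ a) p := by
    rw [IsPrimitiveRoot.iff_orderOf]
    exact (orderOf_eq_prime (hpw a) ha1)
  obtain ⟨j, -, hj⟩ := hprim.eq_pow_of_pow_eq_one (hpw b)
  have h1 : ∀ k, (p : ℤ) ∣ b k - j * a k := by
    intro k
    have h2 : t k ∈ L j := hsup (L j) (fun x hx => ⟨(hF hx).1, by rw [hFa x hx, hFb x hx, one_zpow]⟩)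
      ⟨ht₀.1, by rw [zpow_natCast, hj]⟩ (ht k).1
    have h3 : cX hp (t k) b = cX hp (t k) a ^ (j : ℤ) := h2.2
    rw [(ht k).2, (ht k).2, ← zpow_mul] at h3
    rw [← hone, zpow_sub₀ hζ0, h3, mul_comm, div_self (zpow_ne_zero _ hζ0)]
  choose x hx using h1
  refine pm_of_mod hp hch ha.1 hb.1 (j := (j : ℤ)) (x := x) ?_
  funext k
  rw [Pi.add_apply, Pi.smul_apply, Pi.smul_apply, smul_eq_mul, smul_eq_mul, ← hx k]
  ring

/-- the `p`-torsion of the torus is fixed -/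
theorem fix_TP {e : ℕ} {τ : MulAut ↥(D.group (KK r))} {γ : (Fin l → ℤ) ≃+ (Fin l → ℤ)} (hτ : IsFrob r e τ)
    (F : Fr cs hp.isCartan (TT D (KK r)) (XX D l (KK r)) τ γ) {ε : ℤ} {p : ℕ} (hε : Eps p (r ^ e) ε)
    (hγ : ∀ x, γ x = ε • x) {t : ↥(D.group (KK r))} (ht : t ∈ TP hp r p) : τ t = t := by
  have hpw : ∀ c : Fin l → ℤ, cX hp t c ^ p = 1 := fun c => by
    rw [← cX_pow hp ht.1, ht.2, cX_one]
  refine cX_inj hp ((F.tor t).2 ht.1) ht.1 fun i => ?_
  have hri := isRoot_sr cs hp.isCartan i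
  have h0 := (isMC_cX hp ht.1).ne_zero (sr i)
  obtain ⟨h1, h2⟩ := hε
  have hk := locFin r
  obtain ⟨c, hc⟩ := h2
  rcases h1 with rfl | rfl
  · have h3 := fr_ch hp cs hk hτ F hri ht.1
    rw [hγ, one_smul, ← cX_root hp cs ((F.tor t).2 ht.1) hri, ← cX_root hp cs ht.1 hri] at h3
    rw [h3, ← zpow_natCast]
    have h4 : ((r ^ e : ℕ) : ℤ) = 1 + (p : ℤ) * c := by rw [← hc]; ring
    rw [h4, zpow_add₀ h0, zpow_one, zpow_mul, zpow_natCast, hpw, one_zpow, mul_one]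
  · have h3 := fr_ch hp cs hk hτ F hri.neg ht.1
    rw [hγ, neg_smul_neg, one_smul, ← cX_root hp cs ((F.tor t).2 ht.1) hri, ← cX_root hp cs ht.1 hri.neg,
      (isMC_cX hp ht.1).neg] at h3
    rw [h3, inv_pow, ← zpow_natCast, ← zpow_neg]
    have h4 : -((r ^ e : ℕ) : ℤ) = 1 + (p : ℤ) * (-c) := by
      have h5 : ((r ^ e : ℕ) : ℤ) = (p : ℤ) * c - 1 := by rw [← hc]; ring
      rw [h5]; ring
    rw [h4, zpow_add₀ h0, zpow_one, zpow_mul, zpow_natCast, hpw, one_zpow, mul_one]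

variable {hp} {q : ℕ} {K₀ : Type v} [Group K₀]

theorem finite_frame (m : MData hp r q K₀) {z : ↥(D.group (KK r))} {E' : Subgroup ↥(D.group (KK r))}
    (hτ : ∀ t ∈ E', (MulAut.conj (z⁻¹ * m.σ z) * m.σ) t = t) : Finite ↥E' := by
  have h1 : Finite ↥(E'.map (MulAut.conj z).toMonoidHom) := finite_of_fix m (by
    rintro _ ⟨y, hy, rfl⟩
    exact frame_fix.1 (hτ y hy))
  exact Finite.of_equiv _ (E'.equivMapOfInjective (MulAut.conj z).toMonoidHom (MulAut.conj z).injective).symm.toEquiv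

theorem not_dvd_sq {p q : ℕ} (hp3 : 3 ≤ p) {ε : ℤ} (hε : Eps p q ε) : ¬ p ∣ q ^ 2 + 1 := by
  rintro h1
  obtain ⟨h2, c, hc⟩ := hε
  have h3 : (p : ℤ) ∣ (q : ℤ) ^ 2 + 1 := by exact_mod_cast h1
  have h4 : (q : ℤ) = ε + p * c := by rw [← hc]; ring
  have h5 : (p : ℤ) ∣ 2 := by
    have h6 : (2 : ℤ) = ((q : ℤ) ^ 2 + 1) - p * (2 * ε * c + p * c ^ 2) := by
      rw [h4]
      rcases h2 with rfl | rfl <;> ring
    rw [h6]
    exact dvd_sub h3 (dvd_mul_right _ _)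
  have h7 := Int.le_of_dvd (by norm_num) h5
  omega

/-- **The end for `γ = ± 1`.** -/
theorem end_eps (m : MData hp r q K₀) (h : HiList D) [IsSimpleGroup K₀] (hq : 3 ≤ q) (hG2 : D = chevG2 → 4 ≤ q)
    {d : ℕ} {B : Fin l → Fin l → ℤ} (hB : H129.TorusChar.InvC D l d B) (hd : d ≠ 0)
    {p : ℕ} [hpp : Fact p.Prime] (hp3 : 3 ≤ p) (hpr : p ≠ r) (hch : ChkP D l p)
    {E : Subgroup ↥(D.group (KK r))} {z : ↥(D.group (KK r))}
    {γ : (Fin l → ℤ) ≃+ (Fin l → ℤ)} (F : NFrame m E z γ) {ε : ℤ} (hε : Eps p q ε) (hγ : ∀ x, γ x = ε • x)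
    (hS : ∀ a, IsRoot M.toCoxeterSystem hp.isCartan a →
      InS r l (MulAut.conj (z⁻¹ * m.σ z) * m.σ) (HZ m p E z) {a, -a}) : GamY m.ι p E = ⊤ := by
  have hfix : ∀ t ∈ TP hp r p, (MulAut.conj (z⁻¹ * m.σ z) * m.σ) t = t := fun t ht =>
    fix_TP hp (m.frob.conj_mul _) F.fr (by rw [m.hq]; exact hε) hγ ht
  have hfin := finite_frame m hfix
  refine end_general m h hq hG2 hpr F (E' := TP hp r p) (fun t ht => ht.1) (TP_el hp) hfix ?_
    (Or.inl (not_dvd_sq hp3 hε)) ?_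
  · obtain ⟨ζ, hζ, t, ht⟩ := exists_coords hp hB hd hpp.out hpr
    have h1 := orderOf_dvd_natCard (⟨t (nd h hp), (ht _).1⟩ : ↥(TP hp r p))
    have h2 : orderOf (⟨t (nd h hp), (ht _).1⟩ : ↥(TP hp r p)) = p := by
      refine orderOf_eq_prime (Subtype.ext (ht _).1.2) fun h3 => ?_
      have h4 : t (nd h hp) = 1 := congrArg Subtype.val h3
      have h5 := (ht (nd h hp)).2 (sr (nd h hp))
      rw [h4, cX_one, sr_self, zpow_one] at h5
      rw [← h5] at hζ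
      exact hpp.out.one_lt.ne' (hζ.eq_orderOf.trans orderOf_one)
    rw [h2] at h1
    exact Nat.le_of_dvd Nat.card_pos h1
  · intro F' hF' hi u hu hτu hur
    by_cases hne : (S0 hp r F').Nonempty
    · obtain ⟨a, ha⟩ := hne
      refine hS a ha.1 u (RGD.Sup_mono (fun b hb => ?_) hu) hτu hur
      rcases S0_pm hp hB hd hpp.out hpr hch hF' hi ha hb with rfl | rfl
      · exact Or.inl rfl
      · exact Or.inr rfl
    · rw [Set.not_nonempty_iff_eq_empty] at hne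
      rw [hne, OppDec.Sup_empty, Subgroup.mem_bot] at hu
      rw [hu]
      exact one_mem _

end Eps

theorem not_hi_B2 : ¬ HiList chevB2 := by
  have hne : ∀ {D D' : ChevalleyDatum}, D.nroots ≠ D'.nroots → D ≠ D' := fun h e => h (e ▸ rfl)
  simp only [HiList, List.mem_cons, List.not_mem_nil, or_false, not_or]
  exact ⟨hne (by decide +kernel), hne (by decide +kernel), hne (by decide +kernel), hne (by decide +kernel),
    hne (by decide +kernel), hne (by decide +kernel)⟩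

/-- **M8a.** -/
theorem p8a {D : ChevalleyDatum} {l : ℕ} {M : CoxeterMatrix (Fin l)} {hp : IsType D l M} {r q : ℕ} [hr : Fact r.Prime]
    {K₀ : Type v} [Group K₀] (m : MData hp r q K₀) [IsSimpleGroup K₀] (h : HiList D) (hD2 : D ≠ chevG2)
    (hD4 : D ≠ chevD4) : P8a m := by
  intro E _ _ _ h3r hq z γ ε hε hγ F hS
  have hpr : Fact (Nat.Prime 3) := ⟨Nat.prime_three⟩
  obtain ⟨d, B, hB, hd⟩ := exists_invC hp (fun h1 => not_hi_B2 (h1 ▸ h)) hD4
  refine end_eps m h (by omega) (fun h1 => absurd h1 hD2) hB (by omega) (le_refl 3) h3r ?_ F hε hγ hS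
  have h' := hp
  simp only [IsType, typeList, List.mem_cons, List.not_mem_nil, or_false, Prod.mk.injEq] at h'
  rcases h' with ⟨rfl, h1⟩ | ⟨rfl, h1⟩ | ⟨rfl, h1⟩ | ⟨rfl, h1⟩ | ⟨rfl, h1⟩ | ⟨rfl, h1⟩ | ⟨rfl, h1⟩
  · exact absurd rfl hD2
  · exact absurd h not_hi_B2
  · exact absurd rfl hD4
  · obtain rfl : l = 4 := congrArg Sigma.fst h1
    exact chkP_F4
  · obtain rfl : l = 6 := congrArg Sigma.fst h1
    exact chkP_E6
  · obtain rfl : l = 7 := congrArg Sigma.fst h1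
    exact chkP_E7
  · obtain rfl : l = 8 := congrArg Sigma.fst h1
    exact chkP_E8

/-- **The end for `E₈`, `p = 5`, `q = ± 1` modulo `5`.** -/
theorem end_E8_five {M : CoxeterMatrix (Fin 8)} {hp : IsType chevE8 8 M} {r q : ℕ} [hr : Fact r.Prime]
    {K₀ : Type v} [Group K₀] (m : MData hp r q K₀) [IsSimpleGroup K₀] (h5r : 5 ≠ r) (hq : 3 ≤ q)
    {E : Subgroup ↥(chevE8.group (KK r))} {z : ↥(chevE8.group (KK r))}
    {γ : (Fin 8 → ℤ) ≃+ (Fin 8 → ℤ)} (F : NFrame m E z γ) {ε : ℤ} (hε : Eps 5 q ε) (hγ : ∀ x, γ x = ε • x)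
    (hS : ∀ a, IsRoot M.toCoxeterSystem hp.isCartan a →
      InS r 8 (MulAut.conj (z⁻¹ * m.σ z) * m.σ) (HZ m 5 E z) {a, -a}) : GamY m.ι 5 E = ⊤ := by
  have hpr : Fact (Nat.Prime 5) := ⟨by norm_num⟩
  have hne : ∀ {D D' : ChevalleyDatum}, D.nroots ≠ D'.nroots → D ≠ D' := fun h e => h (e ▸ rfl)
  exact end_eps m hi_E8 hq (fun h1 => absurd h1 (hne (by decide +kernel))) H129.TorusChar.invC_E8 one_ne_zero
    (by norm_num) h5r chkP_E8' F hε hγ hS

end Cfsg.Agent.H225.Mono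

private theorem dce_524490431b52 : _root_.True := by
  try have : _root_.True := by simp only [_root_.Cfsg.Agent.H225.Mono.TP.congr_simp]
  exact _root_.True.intro
end

-- part: H230/X3/Comb
section
set_option linter.all false
open scoped Cfsg.Agent.FastGrp

/-!
# `g² = -1` on the roots of `E8` and subsystems of type `D4` (S2187 X3, helper230)

* `exists_base` : if `g` preserves the roots of `E8` and `g² = -1` then there is a base `w β` (`β` the nodes `3; 1, 2, 4`) of a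
  subsystem of type `D4` on which `g` acts as an explicit element `v` of the Weyl group of `D4`.
-/

set_option autoImplicit false
set_option linter.unusedSectionVars false
set_option linter.unusedVariables false

namespace Cfsg.Agent.H230.X3.Comb

open CoxeterSystem Cfsg Cfsg.Lie Cfsg.Lie.ChevalleyDatum
open Cfsg.Agent.ChevalleyStructure Cfsg.Agent.ChevalleyStructure.Elts Cfsg.Agent.ChevalleyStructure.CoxeterGeom
  Cfsg.Agent.ChevalleyStructure.CoxeterGeomTypes Cfsg.Agent.ChevalleyStructure.NPerm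
open Cfsg.Agent.Tits.Roots Cfsg.Agent.Tits.Core Cfsg.Agent.Nodes Cfsg.Agent.Nodes.Reps Cfsg.Agent.Nodes.BNOf
  Cfsg.Agent.Nodes.RGDChev Cfsg.Agent.Nodes.SubComb Cfsg.Agent.Nodes.Coroot
open Cfsg.Agent.H225.Gen
open Cfsg.Agent.H123.ExcComb (cpr_sub)

/-! ### dominant vectors -/

section Dom

variable {I W : Type*} [Fintype I] [DecidableEq I] [Group W] {M : CoxeterMatrix I} (cs : CoxeterSystem M W)
  {A : I → I → ℤ} (h : IsCartan M A)

theorem exists_dom [Finite W] (S : Set I) (y : I → ℤ) : ∃ w ∈ Subgroup.closure (cs.simple '' S), ∀ i ∈ S,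
    0 ≤ pairing A i (rep cs h w y) := by
  obtain ⟨w, hw⟩ := Finite.exists_max (α := ↥(Subgroup.closure (cs.simple '' S)))
    (fun w => ∑ j, rep cs h w.1 y j)
  refine ⟨w.1, w.2, fun i hi => ?_⟩
  by_contra hc
  push Not at hc
  have h1 := hw ⟨cs.simple i * w.1, mul_mem (Subgroup.subset_closure ⟨i, hi, rfl⟩) w.2⟩
  have h2 : ∑ j, rep cs h (cs.simple i * w.1) y j = ∑ j, rep cs h w.1 y j - pairing A i (rep cs h w.1 y) := by
    rw [rep_mul_apply, rep_simple_eq]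
    simp only [Pi.sub_apply, Pi.smul_apply, smul_eq_mul, Finset.sum_sub_distrib]
    rw [← Finset.mul_sum]
    congr 1
    have : ∑ j, (sr i : I → ℤ) j = 1 := by
      rw [Finset.sum_eq_single i (fun j _ hj => sr_ne hj) (fun h => absurd (Finset.mem_univ i) h), sr_self]
    rw [this, mul_one]
  have h3 : ∑ j, rep cs h (cs.simple i * w.1) y j ≤ ∑ j, rep cs h w.1 y j := h1
  omega

theorem rep_fix {S : Set I} {z : I → ℤ} (hz : ∀ i ∈ S, pairing A i z = 0) {w : W}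
    (hw : w ∈ Subgroup.closure (cs.simple '' S)) : rep cs h w z = z := by
  refine Subgroup.closure_induction (p := fun w _ => rep cs h w z = z) ?_ ?_ ?_ ?_ hw
  · rintro _ ⟨i, hi, rfl⟩
    rw [rep_simple_eq, hz i hi, zero_smul, sub_zero]
  · rw [map_one, Module.End.one_apply]
  · rintro a b - - ha hb
    rw [rep_mul_apply, hb, ha]
  · rintro a - ha
    conv_lhs => rw [← ha]
    rw [rep_inv_apply]

end Dom

/-! ### the canonical tuple -/

theorem chk1 : ∀ r < 240, (∀ i < 8, 0 ≤ chevE8.cartan i r) → r = 239 := by (rewrite [Cfsg.Agent.ChevFast.E8.cartan]; decide +kernel)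

theorem chk2 : ∀ r < 240, vec chevE8 8 r 7 = -1 → (∀ i < 7, 0 ≤ chevE8.cartan i r) → r = 119 := by (rewrite [Cfsg.Agent.ChevFast.E8.cartan]; decide +kernel)

theorem chk3 : ∀ r < 240, vec chevE8 8 r 7 = -1 → vec chevE8 8 r 6 - 2 * vec chevE8 8 r 7 = 0 →
    (∀ i < 6, 0 ≤ chevE8.cartan i r) → r = 78 := by (rewrite [Cfsg.Agent.ChevFast.E8.cartan]; decide +kernel)

theorem chk4' : ∀ r < 240, (vec chevE8 8 r 7 = -1 ∧ vec chevE8 8 r 6 - 2 * vec chevE8 8 r 7 = 0 ∧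
    vec chevE8 8 r 0 - vec chevE8 8 r 6 = 0 ∧ ∀ i < 5, 0 ≤ chevE8.cartan (i + 1) r) → r = 11 := by decide +kernel

theorem chk4 (r : ℕ) (hr : r < 240) (h1 : vec chevE8 8 r 7 = -1) (h2 : vec chevE8 8 r 6 - 2 * vec chevE8 8 r 7 = 0)
    (h3 : vec chevE8 8 r 0 - vec chevE8 8 r 6 = 0) (h4 : ∀ i < 6, 1 ≤ i → 0 ≤ chevE8.cartan i r) : r = 11 :=
  chk4' r hr ⟨h1, h2, h3, fun i hi => h4 (i + 1) (by omega) (by omega)⟩

theorem cart_le : ∀ i j : Fin 8, i ≠ j → cartanOf chevE8 8 i j = 0 ∨ cartanOf chevE8 8 i j = -1 := by (delta Cfsg.Agent.ChevalleyStructure.CoxeterGeomTypes.cartanOf; rewrite [Cfsg.Agent.ChevFast.E8.cartan]; decide +kernel)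

theorem no46 (i j : Fin 8) : CoxeterMatrix.E₈ i j ≠ 4 ∧ CoxeterMatrix.E₈ i j ≠ 6 := by
  have hp : IsType chevE8 8 CoxeterMatrix.E₈ := by simp [IsType, typeList]
  by_cases hij : i = j
  · subst hij; rw [CoxeterMatrix.diagonal]; decide
  have h3 := hp.isCartan.rel i j hij
  have h4 := cart_le i j hij
  have h5 := cart_le j i (Ne.symm hij)
  omega
theorem no4 (i j : Fin 8) : CoxeterMatrix.E₈ i j ≠ 4 := (no46 i j).1
theorem no6 (i j : Fin 8) : CoxeterMatrix.E₈ i j ≠ 6 := (no46 i j).2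

section Tup

variable (hp : IsType chevE8 8 CoxeterMatrix.E₈) {W : Type*} [Group W] (cs : CoxeterSystem CoxeterMatrix.E₈ W)

theorem cpr_vec_sum (x : Fin 8 → ℤ) {r : ℕ} (hr : r < 240) :
    cpr cs hp.isCartan x (vec chevE8 8 r) = ∑ k : Fin 8, x k * chevE8.cartan k r := by
  have := finite_W hp cs
  rw [SimplyLaced.cpr_eq_sum cs hp.isCartan no4 no6 x (isRoot_vec hp cs hr)]
  refine Finset.sum_congr rfl fun k _ => ?_
  rw [pairing_vec hp k hr]

theorem cpr1 (x : Fin 8 → ℤ) : cpr cs hp.isCartan x (vec chevE8 8 239) = x 7 := by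
  rw [cpr_vec_sum hp cs x (by norm_num)]
  have h1 : ∀ k : Fin 8, chevE8.cartan k 239 = if k = 7 then 1 else 0 := by (rewrite [Cfsg.Agent.ChevFast.E8.cartan]; decide +kernel)
  simp only [h1, mul_ite, mul_one, mul_zero, Finset.sum_ite_eq', Finset.mem_univ, if_true]

theorem cpr2 (x : Fin 8 → ℤ) : cpr cs hp.isCartan x (vec chevE8 8 119) = x 6 - 2 * x 7 := by
  rw [cpr_vec_sum hp cs x (by norm_num)]
  have h1 : ∀ k : Fin 8, chevE8.cartan k 119 = (if k = 6 then 1 else 0) + (if k = 7 then -2 else 0) := by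
    (rewrite [Cfsg.Agent.ChevFast.E8.cartan]; decide +kernel)
  simp only [h1, mul_add, mul_ite, mul_one, mul_zero, Finset.sum_add_distrib, Finset.sum_ite_eq', Finset.mem_univ,
    if_true]
  ring

theorem cpr3 (x : Fin 8 → ℤ) : cpr cs hp.isCartan x (vec chevE8 8 78) = x 0 - x 6 := by
  rw [cpr_vec_sum hp cs x (by norm_num)]
  have h1 : ∀ k : Fin 8, chevE8.cartan k 78 = (if k = 0 then 1 else 0) + (if k = 6 then -1 else 0) := by
    decide +kernel
  simp only [h1, mul_add, mul_ite, mul_one, mul_zero, Finset.sum_add_distrib, Finset.sum_ite_eq', Finset.mem_univ,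
    if_true]
  ring

/-- **all tuples of type `D4` are conjugate to the canonical one** -/
theorem exists_canon {y : Fin 4 → Fin 8 → ℤ} (hy : ∀ i, IsRoot cs hp.isCartan (y i))
    (h10 : cpr cs hp.isCartan (y 1) (y 0) = -1) (h20 : cpr cs hp.isCartan (y 2) (y 0) = -1)
    (h30 : cpr cs hp.isCartan (y 3) (y 0) = -1) (h21 : cpr cs hp.isCartan (y 2) (y 1) = 0)
    (h31 : cpr cs hp.isCartan (y 3) (y 1) = 0) (h32 : cpr cs hp.isCartan (y 3) (y 2) = 0) :
    ∃ w : W, rep cs hp.isCartan w (y 0) = vec chevE8 8 239 ∧ rep cs hp.isCartan w (y 1) = vec chevE8 8 119 ∧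
      rep cs hp.isCartan w (y 2) = vec chevE8 8 78 ∧ rep cs hp.isCartan w (y 3) = vec chevE8 8 11 := by
  have := finite_W hp cs
  have hv : ∀ {x : Fin 8 → ℤ}, IsRoot cs hp.isCartan x → ∃ r < 240, x = vec chevE8 8 r := fun {x} hx => by
    obtain ⟨r, hr, rfl⟩ := (isRoot_iff hp cs x).1 hx
    exact ⟨r, hr, rfl⟩
  have hpv : ∀ {i : ℕ} (hi : i < 8) {r : ℕ} (hr : r < 240), 0 ≤ pairing (cartanOf chevE8 8) ⟨i, hi⟩ (vec chevE8 8 r) →
      0 ≤ chevE8.cartan i r := fun {i} hi {r} hr h => by rwa [pairing_vec hp ⟨i, hi⟩ hr] at h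
  -- step 0
  obtain ⟨w0, -, hw0⟩ := exists_dom cs hp.isCartan Set.univ (y 0)
  have e0 : rep cs hp.isCartan w0 (y 0) = vec chevE8 8 239 := by
    obtain ⟨r, hr, e⟩ := hv ((hy 0).act w0)
    rw [e] at hw0 ⊢
    rw [chk1 r hr fun i hi => hpv hi hr (hw0 _ (Set.mem_univ _))]
  -- step 1
  obtain ⟨w1, hw1', hw1⟩ := exists_dom cs hp.isCartan {i : Fin 8 | i.val < 7} (rep cs hp.isCartan w0 (y 1))
  have f0 : rep cs hp.isCartan w1 (vec chevE8 8 239) = vec chevE8 8 239 := by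
    refine rep_fix cs hp.isCartan (fun i hi => ?_) hw1'
    rw [pairing_vec hp i (show 239 < chevE8.nroots by decide)]
    revert i
    (rewrite [Cfsg.Agent.ChevFast.E8.cartan]; decide +kernel)
  have e0' : rep cs hp.isCartan (w1 * w0) (y 0) = vec chevE8 8 239 := by rw [rep_mul_apply, e0, f0]
  have e1 : rep cs hp.isCartan (w1 * w0) (y 1) = vec chevE8 8 119 := by
    have h1 := cpr_rep cs hp.isCartan (w1 * w0) (y 1) (hy 0)
    rw [e0', h10, cpr1 hp cs] at h1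
    rw [← rep_mul_apply] at hw1
    obtain ⟨r, hr, e⟩ := hv ((hy 1).act (w1 * w0))
    rw [e] at hw1 h1 ⊢
    rw [chk2 r hr h1 fun i hi => hpv (by omega) hr (hw1 _ hi)]
  -- step 2
  obtain ⟨w2, hw2', hw2⟩ := exists_dom cs hp.isCartan {i : Fin 8 | i.val < 6} (rep cs hp.isCartan (w1 * w0) (y 2))
  have f0 : rep cs hp.isCartan w2 (vec chevE8 8 239) = vec chevE8 8 239 := by
    refine rep_fix cs hp.isCartan (fun i hi => ?_) hw2'
    rw [pairing_vec hp i (show 239 < chevE8.nroots by decide)]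
    revert i
    decide +kernel
  have f1 : rep cs hp.isCartan w2 (vec chevE8 8 119) = vec chevE8 8 119 := by
    refine rep_fix cs hp.isCartan (fun i hi => ?_) hw2'
    rw [pairing_vec hp i (show 119 < chevE8.nroots by decide)]
    revert i
    decide +kernel
  have e0'' : rep cs hp.isCartan (w2 * (w1 * w0)) (y 0) = vec chevE8 8 239 := by rw [rep_mul_apply, e0', f0]
  have e1' : rep cs hp.isCartan (w2 * (w1 * w0)) (y 1) = vec chevE8 8 119 := by rw [rep_mul_apply, e1, f1]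
  have e2 : rep cs hp.isCartan (w2 * (w1 * w0)) (y 2) = vec chevE8 8 78 := by
    have h1 := cpr_rep cs hp.isCartan (w2 * (w1 * w0)) (y 2) (hy 0)
    have h2 := cpr_rep cs hp.isCartan (w2 * (w1 * w0)) (y 2) (hy 1)
    rw [e0'', h20, cpr1 hp cs] at h1
    rw [e1', h21, cpr2 hp cs] at h2
    rw [← rep_mul_apply] at hw2
    obtain ⟨r, hr, e⟩ := hv ((hy 2).act (w2 * (w1 * w0)))
    rw [e] at hw2 h1 h2 ⊢
    rw [chk3 r hr h1 h2 fun i hi => hpv (by omega) hr (hw2 _ hi)]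
  -- step 3
  obtain ⟨w3, hw3', hw3⟩ := exists_dom cs hp.isCartan {i : Fin 8 | i.val < 6 ∧ 1 ≤ i.val}
    (rep cs hp.isCartan (w2 * (w1 * w0)) (y 3))
  have f0 : rep cs hp.isCartan w3 (vec chevE8 8 239) = vec chevE8 8 239 := by
    refine rep_fix cs hp.isCartan (fun i hi => ?_) hw3'
    rw [pairing_vec hp i (show 239 < chevE8.nroots by decide)]
    revert i
    decide +kernel
  have f1 : rep cs hp.isCartan w3 (vec chevE8 8 119) = vec chevE8 8 119 := by
    refine rep_fix cs hp.isCartan (fun i hi => ?_) hw3'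
    rw [pairing_vec hp i (show 119 < chevE8.nroots by decide)]
    revert i
    decide +kernel
  have f2 : rep cs hp.isCartan w3 (vec chevE8 8 78) = vec chevE8 8 78 := by
    refine rep_fix cs hp.isCartan (fun i hi => ?_) hw3'
    rw [pairing_vec hp i (show 78 < chevE8.nroots by decide)]
    revert i
    decide +kernel
  refine ⟨w3 * (w2 * (w1 * w0)), by rw [rep_mul_apply, e0'', f0], by rw [rep_mul_apply, e1', f1],
    by rw [rep_mul_apply, e2, f2], ?_⟩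
  have h1 := cpr_rep cs hp.isCartan (w3 * (w2 * (w1 * w0))) (y 3) (hy 0)
  have h2 := cpr_rep cs hp.isCartan (w3 * (w2 * (w1 * w0))) (y 3) (hy 1)
  have h3 := cpr_rep cs hp.isCartan (w3 * (w2 * (w1 * w0))) (y 3) (hy 2)
  rw [rep_mul_apply cs hp.isCartan w3 _ (y 0), e0'', f0, h30, cpr1 hp cs] at h1
  rw [rep_mul_apply cs hp.isCartan w3 _ (y 1), e1', f1, h31, cpr2 hp cs] at h2
  rw [rep_mul_apply cs hp.isCartan w3 _ (y 2), e2, f2, h32, cpr3 hp cs] at h3
  rw [← rep_mul_apply] at hw3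
  obtain ⟨r, hr, e⟩ := hv ((hy 3).act (w3 * (w2 * (w1 * w0))))
  rw [e] at hw3 h1 h2 h3 ⊢
  rw [chk4 r hr h1 h2 h3 fun i hi hi1 => hpv (by omega) hr (hw3 _ ⟨hi, hi1⟩)]

theorem root_mem_LL {x : Fin 8 → ℤ} (hx : IsRoot cs hp.isCartan x) : x ∈ LL cs hp := by
  have := finite_W hp cs
  obtain ⟨w0, -, hw0⟩ := exists_dom cs hp.isCartan Set.univ x
  obtain ⟨r, hr, e⟩ := (isRoot_iff hp cs _).1 (hx.act w0)
  have hr' : r < 240 := hr
  have e0 : rep cs hp.isCartan w0 x = vec chevE8 8 239 := by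
    rw [← e] at hw0 ⊢
    rw [chk1 r hr' fun i hi => by
      have := hw0 ⟨i, hi⟩ (Set.mem_univ _)
      rwa [pairing_vec hp ⟨i, hi⟩ hr] at this]
  refine ⟨w0⁻¹, ?_⟩
  show _ = rep cs hp.isCartan w0⁻¹ (vec chevE8 8 239)
  rw [← e0, rep_inv_apply]

theorem exists_neg {x y : Fin 8 → ℤ} (hx : IsRoot cs hp.isCartan x) (hy : IsRoot cs hp.isCartan y)
    (h1 : cpr cs hp.isCartan x y = 1 ∨ cpr cs hp.isCartan x y = -1) :
    ∃ x', IsRoot cs hp.isCartan x' ∧ cpr cs hp.isCartan x' y = -1 ∧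
      ∀ z, IsRoot cs hp.isCartan z → cpr cs hp.isCartan y z = 0 → cpr cs hp.isCartan x' z = cpr cs hp.isCartan x z := by
  have := finite_W hp cs
  rcases h1 with h1 | h1
  · refine ⟨x - cpr cs hp.isCartan x y • y, isRoot_refl cs hp.isCartan hx hy, ?_, fun z hz h2 => ?_⟩
    · rw [cpr_sub hy, cpr_smul cs _ _ _ hy, cpr_self cs _ hy, h1]; norm_num
    · rw [cpr_sub hz, cpr_smul cs _ _ _ hz, h2, mul_zero, sub_zero]
  · exact ⟨x, hx, h1, fun _ _ _ => rfl⟩

/-- **A base of a subsystem of type `D4` adapted to `g`.** -/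
theorem exists_base {g : (Fin 8 → ℤ) ≃+ (Fin 8 → ℤ)} (hg : ∀ a, IsRoot cs hp.isCartan (g a) ↔ IsRoot cs hp.isCartan a)
    (hsq : ∀ x, g (g x) = -x) : ∃ w : W,
      g (rep cs hp.isCartan w (sr 3)) = rep cs hp.isCartan w (sr 3 + sr 1 + sr 4) ∧
      g (rep cs hp.isCartan w (sr 1)) = rep cs hp.isCartan w (sr 2) ∧
      g (rep cs hp.isCartan w (sr 2)) = rep cs hp.isCartan w (-sr 1) ∧
      g (rep cs hp.isCartan w (sr 4)) = rep cs hp.isCartan w (-(sr 3 + sr 3 + sr 1 + sr 2 + sr 4)) := by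
  have := finite_W hp cs
  have h := hi_E8
  have symm : ∀ {x y}, IsRoot cs hp.isCartan x → IsRoot cs hp.isCartan y →
      cpr cs hp.isCartan x y = cpr cs hp.isCartan y x := fun {x y} hx hy => SimplyLaced.cpr_symm cs _ no4 no6 hx hy
  have inv : ∀ {x y}, IsRoot cs hp.isCartan x → IsRoot cs hp.isCartan y →
      cpr cs hp.isCartan (g x) (g y) = cpr cs hp.isCartan x y := fun {x y} hx hy => H123.ExcComb.cpr_g hg hx hy
  have orth : ∀ {x}, IsRoot cs hp.isCartan x → cpr cs hp.isCartan x (g x) = 0 := fun {x} hx => by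
    have h1 := inv hx ((hg x).2 hx)
    rw [hsq, cpr_neg_right cs _ _ hx, symm ((hg x).2 hx) hx] at h1
    omega
  -- the roots `a1, a2`
  obtain ⟨a1, ha1⟩ : ∃ a1, IsRoot cs hp.isCartan a1 := ⟨_, isRoot_sr cs hp.isCartan 0⟩
  have ha2 := (hg a1).2 ha1
  obtain ⟨c, hc, hc1, hc2⟩ := LL_conn h hp cs (root_mem_LL hp cs ha1) (root_mem_LL hp cs ha2)
  have hcr := LL_root h hp cs hc
  have hne : ∀ {x}, (x = c ∨ x = -c) → x = a1 ∨ x = g a1 → False := by
    rintro x (rfl | rfl) (h1 | h1)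
    · rw [h1] at hc2; exact hc2 (orth ha1)
    · rw [h1] at hc1; exact hc1 (orth ha1)
    · have h2 : c = -a1 := by rw [← h1, neg_neg]
      rw [h2, cpr_neg cs _ _ ha2, orth ha1, neg_zero] at hc2
      exact hc2 rfl
    · have h2 : c = -g a1 := by rw [← h1, neg_neg]
      rw [h2, cpr_neg_right cs _ _ ha2, orth ha1, neg_zero] at hc1
      exact hc1 rfl
  have hv1 : cpr cs hp.isCartan c a1 = 1 ∨ cpr cs hp.isCartan c a1 = -1 := by
    have h1 := SimplyLaced.abs_cpr_le_one cs hp.isCartan no4 no6 hcr ha1 (fun e => hne (Or.inl rfl) (Or.inl e))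
      (fun e => hne (Or.inr rfl) (Or.inl (by rw [e, neg_neg])))
    rw [symm ha1 hcr] at hc1
    rw [abs_le] at h1
    omega
  have hv2 : cpr cs hp.isCartan c (g a1) = 1 ∨ cpr cs hp.isCartan c (g a1) = -1 := by
    have h1 := SimplyLaced.abs_cpr_le_one cs hp.isCartan no4 no6 hcr ha2 (fun e => hne (Or.inl rfl) (Or.inr e))
      (fun e => hne (Or.inr rfl) (Or.inr (by rw [e, neg_neg])))
    rw [abs_le] at h1
    omega
  obtain ⟨c', hc', hc'1, hc'2⟩ := exists_neg hp cs hcr ha1 hv1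
  obtain ⟨a0, ha0, h02, h0z⟩ := exists_neg hp cs hc' ha2 (by rw [hc'2 _ ha2 (orth ha1)]; exact hv2)
  have h01 : cpr cs hp.isCartan a0 a1 = -1 := by
    rw [h0z _ ha1 (by rw [symm ha2 ha1]; exact orth ha1), hc'1]
  -- the root `a3`
  have hga0 := (hg a0).2 ha0
  have k1 : cpr cs hp.isCartan (g a0) a1 = 1 := by
    have h1 := inv ha0 ha2
    rw [hsq, cpr_neg_right cs _ _ ha1, h02] at h1
    omega
  have k2 : cpr cs hp.isCartan (g a0) (g a1) = -1 := by rw [inv ha0 ha1, h01]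
  have k0 : cpr cs hp.isCartan (g a0) a0 = 0 := by rw [symm hga0 ha0]; exact orth ha0
  obtain ⟨u, hu⟩ : ∃ u, u = g a0 - a1 := ⟨_, rfl⟩
  have hur : IsRoot cs hp.isCartan u := by
    have := isRoot_refl cs hp.isCartan hga0 ha1
    rwa [k1, one_smul, ← hu] at this
  have u0 : cpr cs hp.isCartan u a0 = 1 := by
    rw [hu, cpr_sub ha0, k0, symm ha1 ha0, h01]; norm_num
  have u1 : cpr cs hp.isCartan u a1 = -1 := by rw [hu, cpr_sub ha1, k1, cpr_self cs _ ha1]; norm_num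
  have u2 : cpr cs hp.isCartan u (g a1) = -1 := by rw [hu, cpr_sub ha2, k2, orth ha1, sub_zero]
  obtain ⟨a3, ha3⟩ : ∃ a3, a3 = u - a0 := ⟨_, rfl⟩
  have ha3r : IsRoot cs hp.isCartan a3 := by
    have := isRoot_refl cs hp.isCartan hur ha0
    rwa [u0, one_smul, ← ha3] at this
  have h30 : cpr cs hp.isCartan a3 a0 = -1 := by rw [ha3, cpr_sub ha0, u0, cpr_self cs _ ha0]; norm_num
  have h31 : cpr cs hp.isCartan a3 a1 = 0 := by rw [ha3, cpr_sub ha1, u1, h01]; norm_num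
  have h32 : cpr cs hp.isCartan a3 (g a1) = 0 := by rw [ha3, cpr_sub ha2, u2, h02]; norm_num
  obtain ⟨wa, e0, e1, e2, e3⟩ := exists_canon hp cs (y := ![a0, a1, g a1, a3]) (fun i => by
      fin_cases i
      · exact ha0
      · exact ha1
      · exact ha2
      · exact ha3r)
    (by show cpr cs hp.isCartan a1 a0 = -1; rw [symm ha1 ha0, h01])
    (by show cpr cs hp.isCartan (g a1) a0 = -1; rw [symm ha2 ha0, h02]) h30
    (by show cpr cs hp.isCartan (g a1) a1 = 0; rw [symm ha2 ha1, orth ha1]) h31 h32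
  have hs : ∀ i j : Fin 8, cpr cs hp.isCartan (sr i) (sr j) = cartanOf chevE8 8 j i := fun i j => by
    rw [cpr_sr, pairing_sr']
  obtain ⟨wb, f0, f1, f2, f3⟩ := exists_canon hp cs (y := ![sr 3, sr 1, sr 2, sr 4]) (fun i => by
      fin_cases i <;> exact isRoot_sr cs hp.isCartan _)
    ((hs 1 3).trans (by decide +kernel)) ((hs 2 3).trans (by decide +kernel)) ((hs 4 3).trans (by decide +kernel))
    ((hs 2 1).trans (by decide +kernel)) ((hs 4 1).trans (by decide +kernel)) ((hs 4 2).trans (by decide +kernel))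
  have key : ∀ x y z : Fin 8 → ℤ, rep cs hp.isCartan wa x = z → rep cs hp.isCartan wb y = z →
      rep cs hp.isCartan (wa⁻¹ * wb) y = x := by
    intro x y z hx hy
    rw [rep_mul_apply, hy, ← hx, rep_inv_apply]
  have g0 : rep cs hp.isCartan (wa⁻¹ * wb) (sr 3) = a0 := key _ _ _ e0 f0
  have g1 : rep cs hp.isCartan (wa⁻¹ * wb) (sr 1) = a1 := key _ _ _ e1 f1
  have g2 : rep cs hp.isCartan (wa⁻¹ * wb) (sr 2) = g a1 := key _ _ _ e2 f2
  have g3 : rep cs hp.isCartan (wa⁻¹ * wb) (sr 4) = a3 := key _ _ _ e3 f3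
  have hga0' : g a0 = a0 + a1 + a3 := by rw [ha3, hu]; abel
  refine ⟨wa⁻¹ * wb, ?_, ?_, ?_, ?_⟩
  · rw [map_add, map_add, g0, g1, g3, hga0']
  · rw [g1, g2]
  · rw [g2, map_neg, g1, hsq]
  · rw [map_neg, map_add, map_add, map_add, map_add, g0, g1, g2, g3, ha3, hu, map_sub, map_sub, hsq, hga0', ha3, hu]
    abel

/-- the element of the Weyl group of `D4` -/
def vW : W := cs.simple 3 * cs.simple 2 * cs.simple 1 * cs.simple 3 * cs.simple 4 * cs.simple 2

def rf (i : Fin 8) (x : Fin 8 → ℤ) : Fin 8 → ℤ := x - pairing (cartanOf chevE8 8) i x • sr i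

theorem rep_vW (x : Fin 8 → ℤ) : rep cs hp.isCartan (vW cs) x = rf 3 (rf 2 (rf 1 (rf 3 (rf 4 (rf 2 x))))) := by
  unfold vW
  rw [rep_mul_apply, rep_mul_apply, rep_mul_apply, rep_mul_apply, rep_mul_apply, rep_simple_eq, rep_simple_eq,
    rep_simple_eq, rep_simple_eq, rep_simple_eq, rep_simple_eq]
  rfl

theorem rf0 : rf 3 (rf 2 (rf 1 (rf 3 (rf 4 (rf 2 (sr 3)))))) = (sr 3 + sr 1 + sr 4 : Fin 8 → ℤ) := by (delta Cfsg.Agent.ChevalleyStructure.CoxeterGeomTypes.cartanOf Cfsg.Agent.H230.X3.Comb.rf; rewrite [Cfsg.Agent.ChevFast.E8.cartan]; decide +kernel)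
theorem rf1 : rf 3 (rf 2 (rf 1 (rf 3 (rf 4 (rf 2 (sr 1)))))) = (sr 2 : Fin 8 → ℤ) := by (delta Cfsg.Agent.ChevalleyStructure.CoxeterGeomTypes.cartanOf Cfsg.Agent.H230.X3.Comb.rf; rewrite [Cfsg.Agent.ChevFast.E8.cartan]; decide +kernel)
theorem rf2 : rf 3 (rf 2 (rf 1 (rf 3 (rf 4 (rf 2 (sr 2)))))) = (-sr 1 : Fin 8 → ℤ) := by (delta Cfsg.Agent.ChevalleyStructure.CoxeterGeomTypes.cartanOf Cfsg.Agent.H230.X3.Comb.rf; rewrite [Cfsg.Agent.ChevFast.E8.cartan]; decide +kernel)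
theorem rf3 : rf 3 (rf 2 (rf 1 (rf 3 (rf 4 (rf 2 (sr 4)))))) = (-(sr 3 + sr 3 + sr 1 + sr 2 + sr 4) : Fin 8 → ℤ) := by
  (delta Cfsg.Agent.ChevalleyStructure.CoxeterGeomTypes.cartanOf Cfsg.Agent.H230.X3.Comb.rf; rewrite [Cfsg.Agent.ChevFast.E8.cartan]; decide +kernel)

end Tup

end Cfsg.Agent.H230.X3.Comb
end
end
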